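import Cfsg.Agent.Lib.PGroup.MaximalClass
import Cfsg.Agent.Lib.PGroup.PolySeq
import Cfsg.Agent.Lib.PGroup.NormalAbelian

/-!
# 3-groups with an element of order 3 whose centralizer has order 9

`Ctx X n x` : `|X| = 3^n`, `x^3 = 1`, `|C(x)| = 9`.  Such a group has maximal class; the basic facts about
its lower central series and its quotient by the centre.
-/

set_option linter.style.haveILetI false
set_option linter.unusedSectionVars false
set_option autoImplicit false

open Subgroup
open scoped commutatorElement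

universe u

namespace Cfsg.Agent.Pearl

/-- The lower central series, Mathlib's indexing. -/
abbrev L (X : Type u) [Group X] (i : ℕ) : Subgroup X := (⊤ : Subgroup X).lowerCentralSeries i

/-- A finite 3-group of order `3 ^ n` with an element of order 3 with centralizer of order 9. -/
structure Ctx (X : Type u) [Group X] (n : ℕ) (x : X) : Prop where
  card : Nat.card X = 3 ^ n
  three_le : 3 ≤ n
  pow : x ^ 3 = 1
  cent : Nat.card (centralizer ({x} : Set X)) = 9

variable {X : Type u} [Group X] [Finite X]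

theorem commutator_L (a b : ℕ) : ⁅L X a, L X b⁆ ≤ L X (a + b + 1) := by
  have h := (PolySeq.isFiltration_lowerCentralSeries (G := X)).comm (a + 1) (b + 1)
  simpa [PolySeq.lcsFil, L, show a + 1 + (b + 1) - 1 = a + b + 1 by omega] using h

theorem nine_le_centralizer {n : ℕ} (hn : 3 ≤ n) (hX : Nat.card X = 3 ^ n) (y : X) :
    9 ≤ Nat.card (centralizer ({y} : Set X)) := by
  haveI : Fact (Nat.Prime 3) := ⟨Nat.prime_three⟩
  have h27 : (3 : ℕ) ^ 3 ≤ 3 ^ n := Nat.pow_le_pow_right (by norm_num) hn
  by_cases hy : y ∈ center X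
  · have h : centralizer ({y} : Set X) = ⊤ := centralizer_eq_top_iff_subset.mpr (by simpa using hy)
    rw [h, card_top, hX]
    omega
  · have hP : IsPGroup 3 X := IsPGroup.of_card hX
    have hlt : center X < centralizer ({y} : Set X) := by
      refine lt_of_le_of_ne (center_le_centralizer _) fun h => hy ?_
      rw [h]
      exact mem_centralizer_singleton_iff.mpr rfl
    have h1 := PGroup.mul_card_le_of_lt hP hlt
    obtain ⟨k, hk, hZ⟩ := IsPGroup.card_center_eq_prime_pow hX (by omega)
    have h2 : 3 ^ 1 ≤ 3 ^ k := Nat.pow_le_pow_right (by norm_num) hk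
    rw [hZ] at h1
    omega

namespace Ctx

variable {n : ℕ} {x : X} [hp : Fact (Nat.Prime 3)] (c : Ctx X n x)

include c

theorem pGroup : IsPGroup 3 X := IsPGroup.of_card c.card

theorem cent_nine : Nat.card (centralizer ({x} : Set X)) = 3 ^ 2 := by rw [c.cent]; norm_num

theorem nilpotencyClass : Group.nilpotencyClass X = n - 1 := by
  refine PGroup.maximal_class_of_selfCentralizing n X c.card _ c.cent_nine (le_antisymm ?_ ?_)
  · exact centralizer_le fun a (ha : a = x) => ha ▸ mem_centralizer_singleton_iff.mpr rfl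
  · intro u hu
    exact mem_centralizer_iff.mpr fun v hv => congrArg Subtype.val
      ((IsPGroup.isMulCommutative_of_card_eq_prime_sq c.cent_nine).is_comm.comm ⟨v, hv⟩ ⟨u, hu⟩)

theorem L_bot {i : ℕ} (hi : n - 1 ≤ i) : L X i = ⊥ := by
  haveI := c.pGroup.isNilpotent
  exact Subgroup.lowerCentralSeries_eq_bot_iff_nilpotencyClass_le.mpr (c.nilpotencyClass.le.trans hi)

theorem card_L {i : ℕ} (hi : 1 ≤ i) : Nat.card (L X i) = 3 ^ (n - 1 - i) := by
  rcases le_or_gt i (n - 1) with h | h
  · exact PGroup.card_lcs_of_maximal_class c.three_le c.card c.nilpotencyClass hi h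
  · rw [c.L_bot h.le, card_bot, show n - 1 - i = 0 by omega, pow_zero]

theorem L_le_center : L X (n - 2) ≤ center X := by
  intro z hz
  rw [mem_center_iff]
  intro g
  have h : ⁅z, g⁆ ∈ L X (n - 2 + 1) := commutator_mem_commutator hz (mem_top g)
  rw [c.L_bot (by omega), mem_bot, commutatorElement_eq_one_iff_mul_comm] at h
  exact h.symm

theorem not_mem_center : x ∉ center X := fun h => by
  have h' : centralizer ({x} : Set X) = ⊤ := centralizer_eq_top_iff_subset.mpr (by simpa using h)
  have h9 := c.cent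
  rw [h', card_top, c.card] at h9
  have : (3 : ℕ) ^ 3 ≤ 3 ^ n := Nat.pow_le_pow_right (by norm_num) c.three_le
  omega

theorem center_lt : center X < centralizer ({x} : Set X) :=
  lt_of_le_of_ne (center_le_centralizer _) fun h =>
    c.not_mem_center (h ▸ mem_centralizer_singleton_iff.mpr rfl)

theorem card_center : Nat.card (center X) = 3 := by
  have h1 := PGroup.mul_card_le_of_lt c.pGroup c.center_lt
  rw [c.cent] at h1
  obtain ⟨k, hk, hZ⟩ := IsPGroup.card_center_eq_prime_pow c.card (by have := c.three_le; omega)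
  have h2 : 3 ^ 1 ≤ 3 ^ k := Nat.pow_le_pow_right (by norm_num) hk
  omega

theorem center_eq : center X = L X (n - 2) := by
  refine (PGroup.eq_of_le_of_card_le c.L_le_center ?_).symm
  rw [c.card_center, c.card_L (by have := c.three_le; omega),
    show n - 1 - (n - 2) = 1 by have := c.three_le; omega, pow_one]

/-- The conjugates of `x` fill the coset `L₁ x`. -/
theorem exists_conj {a : X} (ha : a ∈ L X 1) : ∃ g : X, g * x * g⁻¹ = a * x := by
  set C := centralizer ({x} : Set X) with hC
  have hmem : ∀ g : X, ⁅g, x⁆ ∈ L X 1 := fun g => commutator_mem_commutator (mem_top g) (mem_top x)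
  have hwd : ∀ g h : X, g⁻¹ * h ∈ C ↔ ⁅g, x⁆ = ⁅h, x⁆ := by
    intro g h
    rw [hC, mem_centralizer_singleton_iff, commutatorElement_def, commutatorElement_def, mul_left_inj]
    constructor
    · intro e
      calc g * x * g⁻¹ = g * (x * (g⁻¹ * h)) * h⁻¹ := by group
        _ = g * (g⁻¹ * h * x) * h⁻¹ := by rw [e]
        _ = h * x * h⁻¹ := by group
    · intro e
      calc g⁻¹ * h * x = g⁻¹ * (h * x * h⁻¹) * h := by group
        _ = g⁻¹ * (g * x * g⁻¹) * h := by rw [← e]
        _ = x * (g⁻¹ * h) := by group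
  let f : X ⧸ C → L X 1 := Quotient.lift (fun g => (⟨⁅g, x⁆, hmem g⟩ : L X 1)) fun g h e =>
    Subtype.ext ((hwd g h).mp (QuotientGroup.leftRel_apply.mp e))
  have hf : Function.Injective f := by
    intro u v
    induction u using QuotientGroup.induction_on with
    | H g => induction v using QuotientGroup.induction_on with
      | H h => exact fun e => QuotientGroup.eq.mpr ((hwd g h).mpr (congrArg Subtype.val e))
  have hcard : Nat.card (X ⧸ C) = Nat.card (L X 1) := by
    have h1 := C.card_mul_index
    rw [index_eq_card, show Nat.card C = 9 from c.cent, c.card] at h1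
    rw [c.card_L le_rfl]
    have h2 : 3 ^ n = 9 * 3 ^ (n - 1 - 1) := by
      rw [show (9 : ℕ) = 3 ^ 2 by norm_num, ← pow_add,
        show 2 + (n - 1 - 1) = n by have := c.three_le; omega]
    omega
  have := Fintype.ofFinite (X ⧸ C)
  obtain ⟨u, hu⟩ := (hf.bijective_of_nat_card_le hcard.ge).2 ⟨a, ha⟩
  induction u using QuotientGroup.induction_on with
  | H g =>
    refine ⟨g, ?_⟩
    have hu' : ⁅g, x⁆ = a := congrArg Subtype.val hu
    rw [← hu', commutatorElement_def]
    group

theorem not_mem_L_one : x ∉ L X 1 := fun h => by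
  obtain ⟨g, hg⟩ := c.exists_conj (inv_mem h)
  rw [inv_mul_cancel, conj_eq_one_iff] at hg
  exact c.not_mem_center (hg ▸ one_mem _)

theorem norm_eq_one {a : X} (ha : a ∈ L X 1) : a * (x * a * x⁻¹) * (x * (x * a * x⁻¹) * x⁻¹) = 1 := by
  obtain ⟨g, hg⟩ := c.exists_conj ha
  have h3 : (a * x) ^ 3 = 1 := by rw [← hg, conj_pow, c.pow, mul_one, mul_inv_cancel]
  have hx : x⁻¹ * x⁻¹ = x := by
    have := c.pow
    rw [pow_succ, pow_two] at this
    calc x⁻¹ * x⁻¹ = (x * x)⁻¹ := by group
      _ = x := by rw [eq_inv_of_mul_eq_one_left this, inv_inv]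
  calc a * (x * a * x⁻¹) * (x * (x * a * x⁻¹) * x⁻¹) = a * x * (a * x) * a * (x⁻¹ * x⁻¹) := by group
    _ = (a * x) ^ 3 := by rw [hx, pow_succ, pow_two]; group
    _ = 1 := h3

theorem mem_center_of_commute {a : X} (ha : a ∈ L X 1) (h : a * x = x * a) : a ∈ center X := by
  have hle : center X ≤ L X 1 := by
    rw [c.center_eq]
    exact Subgroup.lowerCentralSeries_antitone _ (by have := c.three_le; omega)
  have heq : center X = L X 1 ⊓ centralizer ({x} : Set X) := by
    refine PGroup.eq_of_le_of_card_le (le_inf hle c.center_lt.le) ?_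
    rw [c.card_center]
    have hlt : L X 1 ⊓ centralizer ({x} : Set X) < centralizer ({x} : Set X) :=
      lt_of_le_of_ne inf_le_right fun h =>
        c.not_mem_L_one (h.ge (mem_centralizer_singleton_iff.mpr rfl)).1
    have := PGroup.mul_card_le_of_lt c.pGroup hlt
    rw [c.cent] at this
    omega
  rw [heq]
  exact ⟨ha, mem_centralizer_singleton_iff.mpr h⟩

omit c in
/-- The preimage of the centralizer of the image in `X ⧸ Z(X)`. -/
def K (y : X) : Subgroup X :=
  (centralizer ({(QuotientGroup.mk' (center X)) y} : Set (X ⧸ center X))).comap (QuotientGroup.mk' (center X))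

omit c in
theorem mem_K {g y : X} : g ∈ K y ↔ ⁅g, y⁆ ∈ center X := by
  rw [K, mem_comap, mem_centralizer_singleton_iff, ← commutatorElement_eq_one_iff_mul_comm,
    ← map_commutatorElement]
  exact QuotientGroup.eq_one_iff _

theorem card_quotient : Nat.card (X ⧸ center X) = 3 ^ (n - 1) := by
  have := card_eq_card_quotient_mul_card_subgroup (center X)
  rw [c.card, c.card_center, show n = n - 1 + 1 by have := c.three_le; omega, pow_succ] at this
  omega

theorem quot (h4 : 4 ≤ n) : Ctx (X ⧸ center X) (n - 1) (QuotientGroup.mk' (center X) x) := by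
  refine ⟨c.card_quotient, by omega, by rw [← map_pow, c.pow, map_one], ?_⟩
  refine le_antisymm ?_ (nine_le_centralizer (by omega) c.card_quotient _)
  set q := QuotientGroup.mk' (center X) with hq
  let θ : K x →* center X := MonoidHom.mk' (fun g => ⟨⁅(g : X), x⁆, mem_K.mp g.2⟩) fun a b => by
    refine Subtype.ext ?_
    show ⁅(a : X) * b, x⁆ = ⁅(a : X), x⁆ * ⁅(b : X), x⁆
    have hb := mem_center_iff.mp (mem_K.mp b.2)
    rw [commutatorElement_mul_left_eq_conj_mul, hb, mul_inv_cancel_right, hb]
  have hker : Nat.card θ.ker ≤ 9 := by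
    rw [← c.cent]
    refine Nat.card_le_card_of_injective (fun g => (⟨((g : K x) : X), ?_⟩ : centralizer ({x} : Set X))) ?_
    · rw [mem_centralizer_singleton_iff, ← commutatorElement_eq_one_iff_mul_comm]
      exact congrArg Subtype.val (MonoidHom.mem_ker.mp g.2)
    · intro a b e
      exact Subtype.ext (Subtype.ext (by simpa using e))
  have hK : Nat.card (K x) ≤ 27 := by
    rw [← θ.ker.card_mul_index, index_ker]
    have h3 : Nat.card θ.range ≤ 3 := c.card_center ▸ card_le_card_group θ.range
    calc _ ≤ 9 * 3 := Nat.mul_le_mul hker h3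
      _ = 27 := rfl
  have hidx : (K x).index = (centralizer ({q x} : Set (X ⧸ center X))).index :=
    index_comap_of_surjective _ (QuotientGroup.mk'_surjective _)
  have h1 := (K x).card_mul_index
  have h2 := (centralizer ({q x} : Set (X ⧸ center X))).card_mul_index
  rw [hidx, c.card] at h1
  rw [c.card_quotient] at h2
  have hn : 3 ^ n = 3 * 3 ^ (n - 1) := by rw [← pow_succ', show n - 1 + 1 = n by omega]
  rw [hn, ← h2, ← mul_assoc] at h1
  have := Nat.eq_of_mul_eq_mul_right (Nat.pos_of_ne_zero index_ne_zero_of_finite) h1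
  omega

theorem card_K {y : X} (hy : Nat.card (centralizer ({(QuotientGroup.mk' (center X)) y} : Set (X ⧸ center X))) = 9) :
    Nat.card (K y) = 27 := by
  have hidx : (K y).index = (centralizer ({(QuotientGroup.mk' (center X)) y} : Set (X ⧸ center X))).index :=
    index_comap_of_surjective _ (QuotientGroup.mk'_surjective _)
  have h1 := (K y).card_mul_index
  have h2 := (centralizer ({(QuotientGroup.mk' (center X)) y} : Set (X ⧸ center X))).card_mul_index
  rw [hidx, c.card] at h1
  rw [c.card_quotient, hy] at h2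
  have hn : 3 ^ n = 3 * 3 ^ (n - 1) := by
    rw [← pow_succ', show n - 1 + 1 = n by have := c.three_le; omega]
  rw [hn, ← h2, ← mul_assoc] at h1
  exact Nat.eq_of_mul_eq_mul_right (Nat.pos_of_ne_zero index_ne_zero_of_finite) h1

theorem map_L (i : ℕ) : (L X i).map (QuotientGroup.mk' (center X)) = L (X ⧸ center X) i := by
  rw [L, Subgroup.map_lowerCentralSeries, map_top_of_surjective _ (QuotientGroup.mk'_surjective _)]

theorem comap_L {i : ℕ} (hi : i ≤ n - 2) :
    (L (X ⧸ center X) i).comap (QuotientGroup.mk' (center X)) = L X i := by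
  rw [← c.map_L, comap_map_eq_self]
  rw [QuotientGroup.ker_mk', c.center_eq]
  exact Subgroup.lowerCentralSeries_antitone _ hi

theorem mem_W {g : X} (h4 : 4 ≤ n) (hg : g ∈ L X 1) (h : ⁅g, x⁆ ∈ center X) : g ∈ L X (n - 3) := by
  have hg' : QuotientGroup.mk' (center X) g ∈ center (X ⧸ center X) := by
    refine (c.quot h4).mem_center_of_commute ?_ ?_
    · rw [← c.map_L]
      exact mem_map_of_mem _ hg
    · rw [← commutatorElement_eq_one_iff_mul_comm, ← map_commutatorElement]
      exact (QuotientGroup.eq_one_iff _).mpr h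
  rw [← c.comap_L (i := n - 3) (by omega), mem_comap, show n - 3 = n - 1 - 2 by omega,
    ← (c.quot h4).center_eq]
  exact hg'

theorem commute_W_x {g : X} (hg : g ∈ L X (n - 3)) : ⁅g, x⁆ ∈ center X := by
  have h : ⁅g, x⁆ ∈ L X (n - 3 + 1) := commutator_mem_commutator hg (mem_top x)
  refine c.L_le_center ?_
  exact Subgroup.lowerCentralSeries_antitone _ (by omega) h

theorem pow_W {a : X} (h4 : 4 ≤ n) (ha : a ∈ L X (n - 3)) : a ^ 3 = 1 := by
  have h1 : a ∈ L X 1 := Subgroup.lowerCentralSeries_antitone _ (by omega) ha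
  have hz : ⁅x, a⁆ ∈ center X := by
    rw [← commutatorElement_inv]
    exact inv_mem (c.commute_W_x ha)
  have hz3 : ⁅x, a⁆ ^ 3 = 1 := by
    have h := pow_card_eq_one' (G := center X) (x := ⟨_, hz⟩)
    rw [c.card_center] at h
    exact congrArg Subtype.val h
  have hc := mem_center_iff.mp hz
  have e1 : x * a * x⁻¹ = ⁅x, a⁆ * a := by rw [commutatorElement_def]; group
  have e2 : x * (x * a * x⁻¹) * x⁻¹ = ⁅x, a⁆ * (⁅x, a⁆ * a) := by
    rw [e1, show x * (⁅x, a⁆ * a) * x⁻¹ = x * ⁅x, a⁆ * (a * x⁻¹) by group, hc x,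
      show ⁅x, a⁆ * x * (a * x⁻¹) = ⁅x, a⁆ * (x * a * x⁻¹) by group, e1]
  have h := c.norm_eq_one h1
  rw [e2, e1] at h
  have hC : Commute a ⁅x, a⁆ := hc a
  have e3 : a * (⁅x, a⁆ * a) * (⁅x, a⁆ * (⁅x, a⁆ * a)) = ⁅x, a⁆ ^ 3 * a ^ 3 := by
    rw [← hC.symm.mul_pow, pow_succ, pow_two]
    simp only [mul_assoc]
    rw [hC.left_comm]
    congr 2
    rw [hC.left_comm, hC.left_comm]
  rwa [e3, hz3, one_mul] at h

theorem commute_U (h5 : 5 ≤ n) {u v : X} (hu : u ∈ L X (n - 4)) (hv : v ∈ L X (n - 4)) : u * v = v * u := by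
  by_cases hn : n = 5
  · subst hn
    haveI : Fact (Nat.Prime 3) := hp
    -- `L₁` has order 27 and centralizes `L₂` of order 9
    have hW : ∀ w ∈ L X 2, ∀ t ∈ L X 1, w * t = t * w := fun w hw t ht => by
      have h := commutator_L 2 1 (commutator_mem_commutator hw ht)
      rwa [c.L_bot (by omega), mem_bot, commutatorElement_eq_one_iff_mul_comm] at h
    by_cases hu2 : u ∈ L X 2
    · exact hW u hu2 v hv
    · have hK : L X 2 ⊔ zpowers u = L X 1 := PGroup.eq_sup_zpowers_of_card c.pGroup
        (Subgroup.lowerCentralSeries_antitone _ (by omega))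
        (by rw [c.card_L le_rfl, c.card_L (by omega : 1 ≤ 2)]; norm_num) hu hu2
      have hle : L X 1 ≤ centralizer ({u} : Set X) := hK ▸ sup_le
        (fun w hw => mem_centralizer_singleton_iff.mpr (hW w hw u hu))
        (zpowers_le.mpr (mem_centralizer_singleton_iff.mpr rfl))
      exact (mem_centralizer_singleton_iff.mp (hle hv)).symm
  · have h := commutator_L (n - 4) (n - 4) (commutator_mem_commutator hu hv)
    rwa [c.L_bot (by omega), mem_bot, commutatorElement_eq_one_iff_mul_comm] at h

/-- Elements of `U = L_(n-4)` outside `W` have nontrivial cube in the centre. -/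
theorem cube_U (h5 : 5 ≤ n) {a : X} (ha : a ∈ L X (n - 4)) (haW : a ∉ L X (n - 3)) :
    a ^ 3 ∈ L X (n - 2) ∧ a ^ 3 ≠ 1 := by
  have hUn : ∀ g : X, ∀ t ∈ L X (n - 4), g * t * g⁻¹ ∈ L X (n - 4) := fun g t ht =>
    (inferInstance : (L X (n - 4)).Normal).conj_mem t ht g
  have ha1 : a ∈ L X 1 := Subgroup.lowerCentralSeries_antitone _ (by omega) ha
  set u := ⁅x, a⁆ with hu
  set v := ⁅x, u⁆ with hv
  have huW : u ∈ L X (n - 3) := by
    have h : ⁅a, x⁆ ∈ L X (n - 4 + 1) := commutator_mem_commutator ha (mem_top x)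
    rw [hu, ← commutatorElement_inv, show n - 3 = n - 4 + 1 by omega]
    exact inv_mem h
  have huZ : u ∉ center X := fun h => haW (c.mem_W (by omega) ha1 (by
    rw [← commutatorElement_inv]; exact inv_mem h))
  have hvZ : v ∈ center X := by
    rw [hv, ← commutatorElement_inv]
    exact inv_mem (c.commute_W_x huW)
  have hv1 : v ≠ 1 := fun h => huZ (c.mem_center_of_commute
    (Subgroup.lowerCentralSeries_antitone _ (by omega) huW)
    (commutatorElement_eq_one_iff_mul_comm.mp h).symm)
  have huU : u ∈ L X (n - 4) := Subgroup.lowerCentralSeries_antitone _ (by omega) huW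
  have e1 : x * a * x⁻¹ = u * a := by rw [hu, commutatorElement_def]; group
  have e2 : x * (x * a * x⁻¹) * x⁻¹ = v * u * (u * a) := by
    rw [e1, show x * (u * a) * x⁻¹ = (x * u * x⁻¹) * (x * a * x⁻¹) by group, e1,
      hv, commutatorElement_def]
    group
  have h := c.norm_eq_one ha1
  rw [e2, e1] at h
  have hau : Commute a u := c.commute_U h5 ha huU
  have hva : Commute v a := (mem_center_iff.mp hvZ a).symm
  have hvu : Commute v u := (mem_center_iff.mp hvZ u).symm
  have e3 : a * (u * a) * (v * u * (u * a)) = v * (u ^ 3 * a ^ 3) := by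
    rw [← hau.symm.mul_pow]
    calc a * (u * a) * (v * u * (u * a)) = (a * (u * a)) * v * (u * (u * a)) := by simp only [mul_assoc]
      _ = v * (a * (u * a)) * (u * (u * a)) := by
        rw [(Commute.mul_right hva (hvu.mul_right hva)).eq]
      _ = v * (u * a) ^ 3 := by
        rw [pow_succ, pow_two, (hau.mul_right (Commute.refl a)).eq]
        simp only [mul_assoc]
        rw [hau.left_comm]
  rw [e3, c.pow_W (by omega) huW, one_mul] at h
  have h3 : a ^ 3 = v⁻¹ := eq_inv_of_mul_eq_one_right h
  exact ⟨by rw [← c.center_eq, h3]; exact inv_mem hvZ, by rw [h3]; simpa using hv1⟩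

end Ctx

end Cfsg.Agent.Pearl
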