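import Cfsg.Agent.Lib.Pearl.TwoGen
import Cfsg.Agent.Lib.Fusion.Essential
import Cfsg.Agent.Lib.PGroup.Omega
import Cfsg.Agent.Lib.Cores.Basic

/-!
# Pearls at the prime 3

`lt_of_essential` : an essential subgroup is proper; `false_of_series` : no invariant series with factors of order 3;
`exists_ctx` : a pearl gives a `Ctx`; `inversion` : the inversion of an elementary pearl of order 9.
-/

set_option linter.style.haveILetI false
set_option linter.unusedSectionVars false
set_option autoImplicit false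

open Subgroup
open scoped commutatorElement

universe u

namespace Cfsg.Agent.Pearl

open Cfsg Cfsg.FusionSystem Cfsg.Agent.Fusion

section Groups

variable {Y : Type u} [Group Y] [Finite Y]

/-- An automorphism of odd order acts trivially on an invariant factor of order at most 3. -/
theorem triv_factor {A Z0 : Subgroup Y} (hn : Z0.Normal) (hle : Z0 ≤ A)
    (hcard : Nat.card A ≤ 3 * Nat.card Z0) (α : MulAut Y) {k : ℕ} (hk : Odd k) (hαk : α ^ k = 1)
    (hA : ∀ a ∈ A, α a ∈ A) (hZ : ∀ z ∈ Z0, α z ∈ Z0) {a : Y} (ha : a ∈ A) : α a * a⁻¹ ∈ Z0 := by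
  haveI := hn
  set q := QuotientGroup.mk' Z0 with hq
  have hmap : Nat.card (A.map q) ≤ 3 := by
    have h1 := (q.domRestrict A).ker.card_mul_index
    rw [index_ker, MonoidHom.domRestrict_range, MonoidHom.ker_domRestrict, QuotientGroup.ker_mk',
      Nat.card_congr (subgroupOfEquivOfLe hle).toEquiv] at h1
    rw [← h1, mul_comm 3] at hcard
    exact Nat.le_of_mul_le_mul_left hcard Nat.card_pos
  have hcyc : ∀ b ∈ A.map q, b ≠ 1 → ∀ b' ∈ A.map q, b' ≠ 1 → b' = b ∨ b' = b⁻¹ := by
    intro b hb hb1 b' hb' hb1'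
    by_contra hne
    push Not at hne
    have hbb : b ≠ b⁻¹ ∨ b = b⁻¹ := (em _).symm
    classical
    let f : Fin 4 → A.map q := fun i =>
      if i = 0 then 1 else if i = 1 then ⟨b, hb⟩ else if i = 2 then ⟨b', hb'⟩ else ⟨b * b', mul_mem hb hb'⟩
    have hf : Function.Injective f := by
      intro i j e
      fin_cases i <;> fin_cases j <;> simp [f, Subtype.ext_iff] at e ⊢
      all_goals first
        | exact hb1 e | exact hb1 e.symm | exact hb1' e | exact hb1' e.symm
        | exact hne.1 e | exact hne.1 e.symm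
        | exact hne.2 (eq_inv_of_mul_eq_one_right e) | exact hne.2 (eq_inv_of_mul_eq_one_right e.symm)
    have h4 := Nat.card_le_card_of_injective f hf
    rw [Nat.card_fin] at h4
    omega
  rw [← QuotientGroup.eq_one_iff]
  show q (α a * a⁻¹) = 1
  rw [map_mul, map_inv, mul_inv_eq_one]
  by_cases h1 : q a = 1
  · rw [h1]
    exact (QuotientGroup.eq_one_iff _).mpr (hZ a ((QuotientGroup.eq_one_iff _).mp h1))
  by_contra hne
  have hcongr : ∀ b c : Y, q b = q c → q (α b) = q (α c) := fun b c e => by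
    rw [QuotientGroup.mk'_apply, QuotientGroup.mk'_apply, QuotientGroup.eq] at e ⊢
    rw [← map_inv, ← map_mul]
    exact hZ _ e
  have hne1 : q (α a) ≠ 1 := fun h => by
    have hz : α a ∈ Z0 := (QuotientGroup.eq_one_iff _).mp h
    have hpow : ∀ j, (α ^ (j + 1)) a ∈ Z0 := by
      intro j
      induction j with
      | zero => simpa using hz
      | succ j ih => rw [pow_succ', MulAut.mul_apply]; exact hZ _ ih
    obtain ⟨l, hl⟩ := hk
    have := hpow (2 * l)
    rw [← hl, hαk] at this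
    exact h1 ((QuotientGroup.eq_one_iff _).mpr this)
  rcases hcyc _ (mem_map_of_mem q ha) h1 _ (mem_map_of_mem q (hA a ha)) hne1 with e | e
  · exact hne e
  have hiter : ∀ j, q ((α ^ j) a) = if Even j then q a else (q a)⁻¹ := by
    intro j
    induction j with
    | zero => simp
    | succ j ih =>
      rw [pow_succ', MulAut.mul_apply]
      by_cases hj : Even j
      · rw [if_pos hj] at ih
        rw [hcongr _ _ ih, e, if_neg (by simp [Nat.even_add_one, hj])]
      · rw [if_neg hj, ← map_inv] at ih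
        rw [hcongr _ _ ih, map_inv, map_inv, e, inv_inv, if_pos (by simp [Nat.even_add_one, hj])]
  have h := hiter k
  rw [hαk, if_neg (Nat.not_even_iff_odd.mpr hk)] at h
  exact hne (e.trans h.symm)

/-- Nonabelian groups of order 27. -/
structure Data27 (Y : Type u) [Group Y] : Prop where
  center : Nat.card (center Y) = 3
  cent : ∀ y, y ∉ Subgroup.center Y → Nat.card (centralizer ({y} : Set Y)) = 9
  comm : ∀ a b : Y, ⁅a, b⁆ ∈ Subgroup.center Y
  pow : ∀ y : Y, y ^ 3 ∈ Subgroup.center Y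

theorem data27 [Fact (Nat.Prime 3)] (h27 : Nat.card Y = 27) (hnc : ¬ IsMulCommutative Y) : Data27 Y := by
  have hY : Nat.card Y = 3 ^ 3 := by rw [h27]; norm_num
  have hP : IsPGroup 3 Y := IsPGroup.of_card hY
  have hnc' : ∀ {N : Subgroup Y} [N.Normal], IsCyclic (Y ⧸ N) → ¬ N ≤ Subgroup.center Y := by
    intro N hN hc hle
    exact hnc ((QuotientGroup.mk' N).isMulCommutative_of_isCyclic_of_ker_le_center
      (by rw [QuotientGroup.ker_mk']; exact hle))
  have hZ : Nat.card (Subgroup.center Y) = 3 := by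
    obtain ⟨k, hk, hk'⟩ := IsPGroup.card_center_eq_prime_pow hY (by norm_num)
    have h := (Subgroup.center Y).card_mul_index
    rw [hk', hY] at h
    rcases (show k = 1 ∨ 2 ≤ k by omega) with rfl | h2
    · rw [hk']; norm_num
    exfalso
    refine hnc' (N := Subgroup.center Y) ?_ le_rfl
    have hk3 : k ≤ 3 := (Nat.pow_le_pow_iff_right (by norm_num : 1 < 3)).mp
      (hY ▸ hk' ▸ Nat.le_of_dvd Nat.card_pos (card_subgroup_dvd_card _))
    rw [index_eq_card] at h
    interval_cases k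
    · exact isCyclic_of_prime_card (p := 3) (by omega)
    · haveI : Subsingleton (Y ⧸ Subgroup.center Y) := (Nat.card_eq_one_iff_unique.mp (by omega)).1
      exact isCyclic_of_subsingleton
  have hq : Nat.card (Y ⧸ Subgroup.center Y) = 3 ^ 2 := by
    have := card_eq_card_quotient_mul_card_subgroup (Subgroup.center Y)
    rw [h27, hZ] at this
    omega
  refine ⟨hZ, fun y hy => ?_, fun a b => ?_, fun y => ?_⟩
  · refine le_antisymm ?_ (nine_le_centralizer le_rfl hY y)
    have hlt : centralizer ({y} : Set Y) < ⊤ := lt_top_iff_ne_top.mpr fun h =>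
      hy (by simpa using centralizer_eq_top_iff_subset.mp h)
    have := PGroup.mul_card_le_of_lt hP hlt
    rw [card_top, h27] at this
    omega
  · rw [← QuotientGroup.eq_one_iff]
    show QuotientGroup.mk' _ ⁅a, b⁆ = 1
    rw [map_commutatorElement, commutatorElement_eq_one_iff_mul_comm]
    exact (IsPGroup.isMulCommutative_of_card_eq_prime_sq hq).is_comm.comm _ _
  · rw [← QuotientGroup.eq_one_iff, QuotientGroup.mk_pow]
    obtain ⟨k, hk, hk'⟩ := (Nat.dvd_prime_pow Nat.prime_three).mp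
      (hq ▸ orderOf_dvd_natCard (y : Y ⧸ Subgroup.center Y))
    rcases (show k ≤ 1 ∨ k = 2 by omega) with h | rfl
    · rw [← orderOf_dvd_iff_pow_eq_one, hk']
      exact (pow_dvd_pow 3 h).trans (by norm_num)
    · exact absurd le_rfl (hnc' (N := Subgroup.center Y)
        (isCyclic_of_orderOf_eq_card _ (hk'.trans hq.symm)))

theorem inv_identity_one {A : Type u} [CommGroup A] (a b : A) (ha : a ^ 3 = 1) (hb : b ^ 3 = 1) :
    a * b * a * (a * b) * (a * b * a) = a⁻¹ := by
  rw [eq_inv_iff_mul_eq_one]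
  calc a * b * a * (a * b) * (a * b * a) * a = (a ^ 3) ^ 2 * b ^ 3 := by
        simp only [pow_succ, pow_zero, one_mul]
        ac_rfl
    _ = 1 := by rw [ha, hb, one_pow, one_mul]

theorem inv_identity_two {A : Type u} [CommGroup A] (a b : A) (ha : a ^ 3 = 1) (hb : b ^ 3 = 1) :
    a * b * a * (a * b) = b⁻¹ := by
  rw [eq_inv_iff_mul_eq_one]
  calc a * b * a * (a * b) * b = a ^ 3 * b ^ 3 := by
        simp only [pow_succ, pow_zero, one_mul]
        ac_rfl
    _ = 1 := by rw [ha, hb, one_mul]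

end Groups

variable {Ω : Type u} [Group Ω] {S : Subgroup Ω} [Finite S] {F : FusionSystem S} {E : Subgroup Ω}

theorem lt_of_essential [Fact (Nat.Prime 3)] (hS : IsPGroup 3 S) (hF : F.IsSaturated 3)
    (hE : F.IsEssential 3 E) : E < S := by
  refine lt_of_le_of_ne hE.1.1 ?_
  rintro rfl
  obtain ⟨-, R, hR⟩ := fullyAutomized_of_fullyNormalized hS hF hE.2.1
  obtain ⟨-, -, hN, H, hH⟩ := hE
  have := finite_mulAut (S := E) (P := E) le_rfl
  have hd := ((StrongPEmb.isStronglyPEmbedded_iff_forall H).mp hH).1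
  have heq : autInducedBy E E = Cfsg.Inn E := by
    refine le_antisymm (fun α hα => ?_) (inn_le_autInducedBy le_rfl)
    obtain ⟨g, hg, e⟩ := mem_autInducedBy_iff.1 hα
    exact ⟨⟨g, hg⟩, MulEquiv.ext fun x => Subtype.ext (e x).symm⟩
  rw [heq] at hR
  rw [← index_eq_card, ← hR] at hd
  exact R.not_dvd_index hd

/-- No invariant series `Z0 ≤ A ≤ E` with factors of order 3. -/
theorem false_of_series [Fact (Nat.Prime 3)] (hS : IsPGroup 3 S) (hF : F.IsSaturated 3)
    (hE : F.IsEssential 3 E) (A Z0 : Subgroup E) (hAn : A.Normal) (hZn : Z0.Normal) (hle : Z0 ≤ A)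
    (hAc : ∀ a ∈ A, ∀ b ∈ A, a * b = b * a) (hA3 : ∀ a ∈ A, a ^ 3 = 1)
    (hcE : Nat.card E ≤ 3 * Nat.card A) (hcA : Nat.card A ≤ 3 * Nat.card Z0) (hcZ : Nat.card Z0 ≤ 3)
    (hAi : ∀ γ ∈ F.autGroup E, ∀ a ∈ A, γ a ∈ A) (hZi : ∀ γ ∈ F.autGroup E, ∀ z ∈ Z0, γ z ∈ Z0) :
    False := by
  have hES := hE.1.1
  have := finite_mulAut (S := S) hES
  have := finite_of_le (S := S) hES
  -- the stabilizer of the series
  let K : Subgroup (MulAut E) :=
    { carrier := {α | α ∈ F.autGroup E ∧ (∀ e, α e * e⁻¹ ∈ A) ∧ (∀ a ∈ A, α a * a⁻¹ ∈ Z0) ∧ ∀ z ∈ Z0, α z = z}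
      one_mem' := ⟨one_mem _, fun e => by simp, fun a _ => by simp, fun z _ => rfl⟩
      mul_mem' := by
        rintro α β ⟨hα, a1, a2, a3⟩ ⟨hβ, b1, b2, b3⟩
        refine ⟨mul_mem hα hβ, fun e => ?_, fun a ha => ?_, fun z hz => ?_⟩
        · rw [MulAut.mul_apply, show α (β e) * e⁻¹ = α (β e * e⁻¹) * (α e * e⁻¹) by rw [map_mul, map_inv]; group]
          exact mul_mem (hAi α hα _ (b1 e)) (a1 e)
        · rw [MulAut.mul_apply, show α (β a) * a⁻¹ = α (β a * a⁻¹) * (α a * a⁻¹) by rw [map_mul, map_inv]; group]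
          exact mul_mem (hZi α hα _ (b2 a ha)) (a2 a ha)
        · rw [MulAut.mul_apply, b3 z hz, a3 z hz]
      inv_mem' := by
        rintro α ⟨hα, a1, a2, a3⟩
        refine ⟨inv_mem hα, fun e => ?_, fun a ha => ?_, fun z hz => ?_⟩
        · have h := a1 (α⁻¹ e)
          rw [MulAut.apply_inv_self] at h
          simpa using inv_mem h
        · have h := a2 (α⁻¹ a) (hAi _ (inv_mem hα) a ha)
          rw [MulAut.apply_inv_self] at h
          simpa using inv_mem h
        · conv_lhs => rw [← a3 z hz]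
          exact MulAut.inv_apply_self E α z }
  have hK3 : ∀ α ∈ K, α ^ 3 = 1 := by
    rintro α ⟨-, a1, a2, a3⟩
    ext e : 1
    obtain ⟨a, ha⟩ : ∃ a, a = α e * e⁻¹ := ⟨_, rfl⟩
    obtain ⟨z, hz⟩ : ∃ z, z = α a * a⁻¹ := ⟨_, rfl⟩
    have haA : a ∈ A := ha ▸ a1 e
    have hzZ : z ∈ Z0 := hz ▸ a2 a haA
    have e1 : α e = a * e := by rw [ha, inv_mul_cancel_right]
    have e2 : α a = z * a := by rw [hz, inv_mul_cancel_right]
    have hc : Commute a z := hAc a haA z (hle hzZ)
    have s1 : α (α e) = z * a * (a * e) := by rw [e1, map_mul, e2, e1]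
    show α (α (α e)) = e
    rw [s1, map_mul, map_mul, map_mul, a3 z hzZ, e2, e1]
    calc z * (z * a) * (z * a * (a * e)) = z ^ 3 * a ^ 3 * e := by
          rw [pow_succ, pow_two, pow_succ, pow_two]
          simp only [mul_assoc]
          rw [hc.left_comm]
      _ = e := by rw [hA3 z (hle hzZ), hA3 a haA, one_mul, one_mul]
  have hKn : (K.subgroupOf (F.autGroup E)).Normal := by
    refine ⟨fun α hα γ => ?_⟩
    rw [mem_subgroupOf] at hα ⊢
    obtain ⟨-, a1, a2, a3⟩ := hα
    refine ⟨(γ * α * γ⁻¹).2, fun e => ?_, fun a ha => ?_, fun z hz => ?_⟩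
    · have h := hAi γ γ.2 _ (a1 ((γ : MulAut E)⁻¹ e))
      rwa [map_mul, map_inv, MulAut.apply_inv_self] at h
    · have h := hZi γ γ.2 _ (a2 ((γ : MulAut E)⁻¹ a) (hAi _ (inv_mem γ.2) a ha))
      rwa [map_mul, map_inv, MulAut.apply_inv_self] at h
    · show (γ : MulAut E) ((α : MulAut E) ((γ : MulAut E)⁻¹ z)) = z
      rw [a3 _ (hZi _ (inv_mem γ.2) z hz), MulAut.apply_inv_self]
  have hKp : IsPGroup 3 (K.subgroupOf (F.autGroup E)) := fun α =>
    ⟨1, Subtype.ext (Subtype.ext (by simpa using hK3 _ α.2))⟩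
  -- an outer automorphism of 3-power order lies in `K`
  obtain ⟨g, hgN, hgE⟩ := SetLike.exists_of_lt (lt_normalizerIn hS le_rfl (lt_of_essential hS hF hE))
  set u := normConj S E ⟨g, hgN⟩ with hu
  have huA : u ∈ autInducedBy S E := range_normConj S E ▸ ⟨_, rfl⟩
  have huF : u ∈ F.autGroup E := autInducedBy_le_autGroup F le_rfl hES huA
  obtain ⟨k, hk⟩ := isPGroup_autInducedBy (P := E) hS ⟨u, huA⟩
  have huk : u ^ 3 ^ k = 1 := congrArg Subtype.val hk
  have hodd : Odd (3 ^ k) := Odd.pow (by decide)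
  have huK : u ∈ K := by
    refine ⟨huF, fun e => ?_, fun a ha => ?_, fun z hz => ?_⟩
    · exact triv_factor (A := ⊤) hAn le_top (by rw [card_top]; exact hcE) u hodd huk
        (fun _ _ => mem_top _) (hAi u huF) (mem_top e)
    · exact triv_factor hZn hle hcA u hodd huk (hAi u huF) (hZi u huF) ha
    · have h := triv_factor (Z0 := ⊥) inferInstance bot_le (by rw [card_bot, mul_one]; exact hcZ) u hodd huk
        (hZi u huF) (fun w hw => by rw [mem_bot.mp hw, map_one]; exact one_mem _) hz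
      exact mul_inv_eq_one.mp (mem_bot.mp h)
  have hpc := mem_map_of_mem (F.autGroup E).subtype
    (Cores.le_pCore hKn hKp (show (⟨u, huF⟩ : F.autGroup E) ∈ K.subgroupOf (F.autGroup E) from huK))
  rw [(radical_of_essential hS hE).2] at hpc
  exact hgE (FusionChain.mem_of_conj_mem_inn (FusionChain.centralizerIn_le_of_centric hE.1) hgN.1 hES hpc
    fun e => rfl)

theorem centralizer_le [Fact (Nat.Prime 3)] (hE : F.IsEssential 3 E) :
    centralizer ((E.subgroupOf S : Subgroup S) : Set S) ≤ E.subgroupOf S := by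
  intro g hg
  exact FusionChain.centralizerIn_le_of_centric hE.1 ⟨g.2, mem_centralizer_iff.mpr fun e he =>
    congrArg Subtype.val (mem_centralizer_iff.mp hg ⟨e, hE.1.1 he⟩ he)⟩

/-- An elementary pearl gives a context. -/
theorem ctx_of_nine [Fact (Nat.Prime 3)] (hS : IsPGroup 3 S) (hF : F.IsSaturated 3)
    (hE : F.IsEssential 3 E) (h9 : Nat.card E = 9) (h3 : ∀ x ∈ E, x ^ 3 = 1) {n : ℕ}
    (hn : Nat.card S = 3 ^ n) :
    ∃ x : S, (x : Ω) ∈ E ∧ centralizer ({x} : Set S) ≤ E.subgroupOf S ∧ Ctx S n x := by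
  have hES := hE.1.1
  set E' := E.subgroupOf S with hE'
  have hc' : Nat.card E' = 3 ^ 2 := by
    rw [Nat.card_congr (subgroupOfEquivOfLe hES).toEquiv, h9]; norm_num
  have hne : E' ≠ ⊤ := fun h => (lt_of_essential hS hF hE).not_ge (subgroupOf_eq_top.mp h)
  have h3n : 3 ≤ n := by
    have h := PGroup.mul_card_le_of_lt hS (lt_top_iff_ne_top.mpr hne)
    rw [hc', card_top, hn, ← pow_succ'] at h
    exact (Nat.pow_le_pow_iff_right (by norm_num : 1 < 3)).mp h
  have hC := centralizer_le hE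
  have hZ : Subgroup.center S ≤ E' := (Subgroup.center_le_centralizer _).trans hC
  obtain ⟨x, hx, hxZ⟩ : ∃ x ∈ E', x ∉ Subgroup.center S := by
    by_contra h
    push Not at h
    exact hne (top_le_iff.mp ((centralizer_eq_top_iff_subset.mpr h).ge.trans hC))
  refine ⟨x, hx, ?_⟩
  suffices h : centralizer ({x} : Set S) = E' from
    ⟨h.le, hn, h3n, Subtype.ext (by simpa using h3 _ hx), by rw [h, hc']; norm_num⟩
  obtain ⟨k, hk, hk'⟩ := IsPGroup.card_center_eq_prime_pow hn (by omega)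
  have hk3 : 3 ^ 1 ≤ 3 ^ k := Nat.pow_le_pow_right (by norm_num) hk
  have hsup := PGroup.eq_sup_zpowers_of_card hS hZ (by rw [hc', hk']; omega) hx hxZ
  have hE'c : E' ≤ centralizer ({x} : Set S) := by
    rw [← hsup]
    exact sup_le (Subgroup.center_le_centralizer _) (zpowers_le.mpr (mem_centralizer_singleton_iff.mpr rfl))
  have hle : centralizer ({x} : Set S) ≤ centralizer (E' : Set S) := fun g hg => by
    refine mem_centralizer_iff.mpr fun e he => ?_
    have hle : E' ≤ centralizer ({g} : Set S) := by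
      rw [← hsup]
      exact sup_le (Subgroup.center_le_centralizer _) (zpowers_le.mpr
        (mem_centralizer_singleton_iff.mpr (mem_centralizer_singleton_iff.mp hg).symm))
    exact mem_centralizer_singleton_iff.mp (hle he)
  exact le_antisymm (hle.trans hC) hE'c

theorem exponent_of_27 [Fact (Nat.Prime 3)] (hS : IsPGroup 3 S) (hF : F.IsSaturated 3)
    (hE : F.IsEssential 3 E) (d : Data27 E) (h27 : Nat.card E = 27) : ∀ y : E, y ^ 3 = 1 := by
  have := finite_of_le (S := S) hE.1.1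
  let θ : E →* E := MonoidHom.mk' (fun y => y ^ 3) fun a b =>
    PGroup.mul_pow_classTwo Nat.prime_three (by norm_num) d.comm (d.pow b)
  have hr : θ.range ≤ Subgroup.center E := by rintro _ ⟨y, rfl⟩; exact d.pow y
  have hker : 9 ≤ Nat.card θ.ker := by
    have h := θ.ker.card_mul_index
    rw [index_ker, h27] at h
    have h' := d.center ▸ Nat.le_of_dvd Nat.card_pos (card_dvd_of_le hr)
    nlinarith
  by_contra hexp
  push Not at hexp
  obtain ⟨y, hy⟩ := hexp
  have hlt : θ.ker < ⊤ := lt_top_iff_ne_top.mpr fun h => hy (MonoidHom.mem_ker.mp (h ▸ mem_top y) :)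
  have hP : IsPGroup 3 E := IsPGroup.of_card (show Nat.card E = 3 ^ 3 by rw [h27]; norm_num)
  have h9 := PGroup.mul_card_le_of_lt hP hlt
  rw [card_top, h27] at h9
  have hc : Nat.card θ.ker = 3 ^ 2 := by omega
  have hz : ∀ z ∈ Subgroup.center E, z ^ 3 = 1 := fun z hz => by
    have h := pow_card_eq_one' (G := Subgroup.center E) (x := ⟨z, hz⟩)
    rw [d.center] at h
    exact congrArg Subtype.val h
  refine false_of_series hS hF hE θ.ker (Subgroup.center E) inferInstance inferInstance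
    (fun z hz' => MonoidHom.mem_ker.mpr (hz z hz')) ?_ (fun a ha => MonoidHom.mem_ker.mp ha)
    (by rw [h27, hc]; norm_num) (by rw [hc, d.center]; norm_num) d.center.le ?_ ?_
  · intro a ha b hb
    exact congrArg Subtype.val
      ((IsPGroup.isMulCommutative_of_card_eq_prime_sq hc).is_comm.comm ⟨a, ha⟩ ⟨b, hb⟩)
  · intro γ _ a ha
    refine MonoidHom.mem_ker.mpr (show (γ a) ^ 3 = 1 from ?_)
    rw [← map_pow, show a ^ 3 = 1 from MonoidHom.mem_ker.mp ha, map_one]
  · intro γ _ z hz'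
    refine mem_center_iff.mpr fun t => ?_
    obtain ⟨t, rfl⟩ := γ.surjective t
    rw [← map_mul, ← map_mul, mem_center_iff.mp hz' t]

/-- A nonabelian pearl gives a context. -/
theorem ctx_of_27 [Fact (Nat.Prime 3)] (hS : IsPGroup 3 S) (hF : F.IsSaturated 3)
    (hE : F.IsEssential 3 E) (h27 : Nat.card E = 27) (hnc : ¬ IsMulCommutative E) {n : ℕ}
    (hn : Nat.card S = 3 ^ n) : 4 ≤ n ∧ ∃ x : S, Ctx S n x := by
  have hES := hE.1.1
  have := finite_of_le (S := S) hES
  have d := data27 h27 hnc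
  have hexp := exponent_of_27 hS hF hE d h27
  set E' := E.subgroupOf S with hE'
  let ι : E →* S := Subgroup.inclusion hES
  have hιinj : Function.Injective ι := Subgroup.inclusion_injective hES
  have hc' : Nat.card E' = 3 ^ 3 := by
    rw [Nat.card_congr (subgroupOfEquivOfLe hES).toEquiv, h27]; norm_num
  have hne : E' ≠ ⊤ := fun h => (lt_of_essential hS hF hE).not_ge (subgroupOf_eq_top.mp h)
  have h4 : 4 ≤ n := by
    have h := PGroup.mul_card_le_of_lt hS (lt_top_iff_ne_top.mpr hne)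
    rw [hc', card_top, hn, ← pow_succ'] at h
    exact (Nat.pow_le_pow_iff_right (by norm_num : 1 < 3)).mp h
  refine ⟨h4, ?_⟩
  have hC := centralizer_le hE
  have hZ : Subgroup.center S ≤ E' := (Subgroup.center_le_centralizer _).trans hC
  have hZeq : Subgroup.center S = (Subgroup.center E).map ι := by
    refine PGroup.eq_of_le_of_card_le (fun z hz => ?_) ?_
    · refine ⟨⟨z, hZ hz⟩, mem_center_iff.mpr fun t => Subtype.ext ?_, rfl⟩
      exact (congrArg Subtype.val (mem_center_iff.mp hz ⟨t, hES t.2⟩) :)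
    · rw [card_map_of_injective hιinj, d.center]
      obtain ⟨k, hk, hk'⟩ := IsPGroup.card_center_eq_prime_pow hn (by omega)
      rw [hk']
      exact Nat.le_self_pow hk.ne' 3
  have hZ3 : Nat.card (Subgroup.center S) = 3 := by rw [hZeq, card_map_of_injective hιinj, d.center]
  -- an element acting trivially on `E / Z(E)` lies in `E`
  have hout : ∀ g : S, (∀ e : E, ⁅g, ι e⁆ ∈ Subgroup.center S) → g ∈ E' := by
    intro g hg
    obtain ⟨a, ha⟩ : ∃ a : E, a ∉ Subgroup.center E := by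
      by_contra h
      push Not at h
      exact hnc ⟨⟨fun p q => (mem_center_iff.mp (h q) p)⟩⟩
    obtain ⟨b, hb⟩ : ∃ b : E, a * b ≠ b * a := by
      by_contra h
      push Not at h
      exact ha (mem_center_iff.mpr fun t => (h t).symm)
    set z := ⁅a, b⁆ with hz
    have hz1 : z ≠ 1 := fun h => hb (commutatorElement_eq_one_iff_mul_comm.mp h)
    have hzpow : ∀ w ∈ Subgroup.center E, ∃ i : ℕ, z ^ i = w := fun w hw => by
      have hgen : zpowers (⟨z, d.comm a b⟩ : Subgroup.center E) = ⊤ :=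
        zpowers_eq_top_of_prime_card (p := 3) d.center (fun h => hz1 (congrArg Subtype.val h))
      have h : (⟨w, hw⟩ : Subgroup.center E) ∈ zpowers (⟨z, d.comm a b⟩ : Subgroup.center E) :=
        hgen ▸ mem_top _
      obtain ⟨i, hi⟩ := (mem_powers_iff_mem_zpowers.mpr h)
      exact ⟨i, congrArg Subtype.val hi⟩
    obtain ⟨wa, hwa, hwa'⟩ := hZeq.le (hg a)
    obtain ⟨wb, hwb, hwb'⟩ := hZeq.le (hg b)
    obtain ⟨i, hi⟩ := hzpow wb hwb
    obtain ⟨j, hj⟩ := hzpow wa⁻¹ (inv_mem hwa)
    set h := a ^ i * b ^ j with hh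
    have hcl : ∀ p q r : E, ⁅p * q, r⁆ = ⁅p, r⁆ * ⁅q, r⁆ := fun p q r => by
      rw [commutatorElement_mul_left_eq_conj_mul, mem_center_iff.mp (d.comm q r) p, mul_inv_cancel_right,
        mem_center_iff.mp (d.comm q r) ⁅p, r⁆]
    have hha : ⁅h, a⁆ = wa := by
      rw [hh, hcl, commutatorElement_eq_one_iff_mul_comm.mpr (Commute.pow_self a i).eq, one_mul,
        ← PGroup.classTwo_pow_commutator d.comm, ← commutatorElement_inv, ← hz, inv_pow, hj, inv_inv]
    have hhb : ⁅h, b⁆ = wb := by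
      rw [hh, hcl, commutatorElement_eq_one_iff_mul_comm.mpr (Commute.pow_self b j).eq, mul_one,
        ← PGroup.classTwo_pow_commutator d.comm, ← hz, hi]
    have hcomm : ∀ e : E, ⁅g, ι e⁆ = ι ⁅h, e⁆ → ((ι h)⁻¹ * g) * ι e = ι e * ((ι h)⁻¹ * g) := by
      intro e he
      rw [map_commutatorElement, commutatorElement_def, commutatorElement_def, mul_left_inj] at he
      calc ((ι h)⁻¹ * g) * ι e = (ι h)⁻¹ * (g * ι e * g⁻¹) * g := by group
        _ = (ι h)⁻¹ * (ι h * ι e * (ι h)⁻¹) * g := by rw [he]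
        _ = ι e * ((ι h)⁻¹ * g) := by group
    have hga := hcomm a (by rw [hha, hwa'])
    have hgb := hcomm b (by rw [hhb, hwb'])
    set g' := (ι h)⁻¹ * g with hg'
    have hg'E : g' ∈ E' := by
      refine hC (mem_centralizer_iff.mpr fun e he => ?_)
      set H := (centralizer ({g'} : Set S)).comap ι with hH
      have hHtop : H = ⊤ := by
        have hP : IsPGroup 3 E := IsPGroup.of_card (show Nat.card E = 3 ^ 3 by rw [h27]; norm_num)
        have hZH : Subgroup.center E ≤ H := fun w hw => mem_comap.mpr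
          (Subgroup.center_le_centralizer _ (hZeq ▸ mem_map_of_mem ι hw))
        have haH : a ∈ H := mem_centralizer_singleton_iff.mpr hga.symm
        have hbH : b ∈ H := mem_centralizer_singleton_iff.mpr hgb.symm
        have h1 : Subgroup.center E < Subgroup.center E ⊔ zpowers a :=
          left_lt_sup.2 fun h => ha (h (mem_zpowers a))
        have h2 : Subgroup.center E ⊔ zpowers a < H := by
          refine lt_of_le_of_ne (sup_le hZH (zpowers_le.mpr haH)) fun h => ?_
          rw [← h] at hbH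
          have hle : Subgroup.center E ⊔ zpowers a ≤ centralizer ({a} : Set E) :=
            sup_le (Subgroup.center_le_centralizer _) (zpowers_le.mpr (mem_centralizer_singleton_iff.mpr rfl))
          exact hb (mem_centralizer_singleton_iff.mp (hle hbH)).symm
        have h3 := PGroup.mul_card_le_of_lt hP h1
        have h4 := PGroup.mul_card_le_of_lt hP h2
        rw [d.center] at h3
        exact eq_top_of_le_card H (by rw [h27]; omega)
      have : (⟨e, he⟩ : E) ∈ H := hHtop ▸ mem_top _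
      exact mem_centralizer_singleton_iff.mp this
    rw [show g = ι h * g' by rw [hg']; group]
    exact mul_mem h.2 hg'E
  -- the second centre
  set q := QuotientGroup.mk' (Subgroup.center S)
  have hqc : ∀ s t : S, ⁅s, t⁆ ∈ Subgroup.center S ↔ q s * q t = q t * q s := fun s t => by
    rw [← QuotientGroup.eq_one_iff, ← commutatorElement_eq_one_iff_mul_comm, ← map_commutatorElement]
    rfl
  set Z2 := (Subgroup.center (S ⧸ Subgroup.center S)).comap q with hZ2
  have hZ2E : Z2 ≤ E' := fun w hw => hout w fun e =>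
    (hqc _ _).mpr (mem_center_iff.mp hw (q (ι e))).symm
  have hZ2c : 9 ≤ Nat.card Z2 := by
    have hlt : Subgroup.center S < Z2 := by
      have hle : Subgroup.center S ≤ Z2 := fun z hz => by
        rw [hZ2, mem_comap, show q z = 1 from (QuotientGroup.eq_one_iff z).mpr hz]
        exact one_mem _
      refine lt_of_le_of_ne hle fun h => ?_
      have hnt : Nontrivial (S ⧸ Subgroup.center S) := QuotientGroup.nontrivial_iff.mpr fun h' =>
        hne (top_le_iff.mp (h' ▸ hZ))
      have hc := (hS.to_quotient (Subgroup.center S)).center_nontrivial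
      obtain ⟨⟨w, hw⟩, hw1⟩ := exists_ne (1 : Subgroup.center (S ⧸ Subgroup.center S))
      obtain ⟨s, rfl⟩ := QuotientGroup.mk'_surjective _ w
      have hs : s ∈ Z2 := hw
      rw [← h] at hs
      exact hw1 (Subtype.ext ((QuotientGroup.eq_one_iff s).mpr hs))
    have := PGroup.mul_card_le_of_lt hS hlt
    omega
  obtain ⟨x, hx, hx2⟩ : ∃ x ∈ E', x ∉ Z2 := by
    by_contra h
    push Not at h
    refine hne (eq_top_iff.mpr fun g _ => hout g fun e => ?_)
    exact (hqc _ _).mpr (mem_center_iff.mp (h (ι e) e.2) (q g))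
  have hsup := PGroup.eq_sup_zpowers_of_card hS hZ2E (by rw [hc']; omega) hx hx2
  set x₀ : E := ⟨x, hx⟩ with hx₀
  have hxE : x₀ ∉ Subgroup.center E := fun h => hx2 (by
    have hxZ : x ∈ Subgroup.center S := hZeq ▸ ⟨x₀, h, rfl⟩
    rw [hZ2, mem_comap, show q x = 1 from (QuotientGroup.eq_one_iff x).mpr hxZ]
    exact one_mem _)
  refine ⟨x, hn, by omega, congrArg ι (hexp x₀), ?_⟩
  have heq : centralizer ({x} : Set S) = (centralizer ({x₀} : Set E)).map ι := by
    apply le_antisymm
    · intro g hg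
      have hgE : g ∈ E' := by
        refine hout g fun e => ?_
        have hle : E' ≤ (centralizer ({q g} : Set (S ⧸ Subgroup.center S))).comap q := by
          rw [← hsup]
          refine sup_le (fun w hw => ?_) (zpowers_le.mpr ?_)
          · exact mem_centralizer_singleton_iff.mpr (mem_center_iff.mp hw (q g)).symm
          · exact mem_centralizer_singleton_iff.mpr
              (by rw [← map_mul, ← map_mul, mem_centralizer_singleton_iff.mp hg])
        exact (hqc _ _).mpr (mem_centralizer_singleton_iff.mp (hle (show ι e ∈ E' from e.2))).symm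
      have hgx : g * x = x * g := mem_centralizer_singleton_iff.mp hg
      have hgx' : (g : Ω) * x = x * g := congrArg Subtype.val hgx
      exact ⟨⟨g, hgE⟩, mem_centralizer_singleton_iff.mpr (Subtype.ext hgx'), rfl⟩
    · rintro _ ⟨w, hw, rfl⟩
      exact mem_centralizer_singleton_iff.mpr (congrArg ι (mem_centralizer_singleton_iff.mp hw))
  rw [heq, card_map_of_injective hιinj, d.cent x₀ hxE]

/-- The inversion of an elementary pearl of order 9 in a group of order 27. -/
theorem inversion [Fact (Nat.Prime 3)] (hS : IsPGroup 3 S) (hF : F.IsSaturated 3)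
    (hE : F.IsEssential 3 E) (h9 : Nat.card E = 9) (h3 : ∀ x ∈ E, x ^ 3 = 1) (h27 : Nat.card S = 27) :
    ∃ φ ∈ F.autGroup E, ∀ e : E, φ e = e⁻¹ := by
  classical
  have hES := hE.1.1
  have := finite_of_le (S := S) hES
  have hEc : IsMulCommutative E :=
    IsPGroup.isMulCommutative_of_card_eq_prime_sq (p := 3) (by rw [h9]; norm_num)
  have hcm : ∀ a b : E, a * b = b * a := fun a b => hEc.is_comm.comm a b
  have hexp : ∀ a : E, a ^ 3 = 1 := fun a => Subtype.ext (by simpa using h3 a a.2)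
  have hP : IsPGroup 3 E := IsPGroup.of_card (show Nat.card E = 3 ^ 2 by rw [h9]; norm_num)
  have hn : ∀ A : Subgroup E, A.Normal := fun A => ⟨fun a ha g => by
    rwa [hcm g a, mul_inv_cancel_right]⟩
  obtain ⟨g, hgN, hgE⟩ := SetLike.exists_of_lt (lt_normalizerIn hS le_rfl (lt_of_essential hS hF hE))
  set u := normConj S E ⟨g, hgN⟩ with hu
  have huA : u ∈ autInducedBy S E := range_normConj S E ▸ ⟨_, rfl⟩
  have huF : u ∈ F.autGroup E := autInducedBy_le_autGroup F le_rfl hES huA
  have hu1 : u ≠ 1 := fun h => hgE (FusionChain.mem_of_conj_mem_inn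
    (FusionChain.centralizerIn_le_of_centric hE.1) hgN.1 hES (h ▸ one_mem _ : u ∈ Cfsg.Inn E) fun e => rfl)
  -- a fixed line of `u`
  have hne : E.subgroupOf S ≠ ⊤ := fun h => (lt_of_essential hS hF hE).not_ge (subgroupOf_eq_top.mp h)
  obtain ⟨z, hzE, hz, hzo⟩ : ∃ z : S, z ∈ E.subgroupOf S ∧ z ∈ Subgroup.center S ∧ orderOf z = 3 := by
    have : (⊤ : Subgroup S) ≠ ⊥ := fun h => by
      have := congrArg (fun H : Subgroup S => Nat.card H) h
      simp only [card_top, card_bot, h27] at this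
      omega
    obtain ⟨z, -, hz, hzo⟩ := PGroup.exists_central_order_p hS this
    exact ⟨z, centralizer_le hE (Subgroup.center_le_centralizer _ hz), hz, hzo⟩
  set e1 : E := ⟨z, hzE⟩ with he1
  have he11 : e1 ≠ 1 := fun h => by
    have : z = 1 := Subtype.ext (congrArg Subtype.val h :)
    rw [this, orderOf_one] at hzo
    omega
  have hue1 : u e1 = e1 := Subtype.ext (by
    rw [hu, normConj_apply]
    have h := congrArg Subtype.val (mem_center_iff.mp hz ⟨g, hgN.1⟩)
    exact mul_inv_eq_iff_eq_mul.mpr h)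
  set L1 := zpowers e1 with hL1
  have hL3 : Nat.card L1 = 3 := by
    rw [hL1, Nat.card_zpowers]
    exact orderOf_eq_prime (hexp e1) he11
  obtain ⟨γ, hγ, hγ1⟩ : ∃ γ ∈ F.autGroup E, γ e1 ∉ L1 := by
    by_contra hcon
    push Not at hcon
    refine false_of_series hS hF hE L1 ⊥ (hn _) (hn _) bot_le (fun a _ b _ => hcm a b) (fun a _ => hexp a)
      (by rw [hL3, h9]) (by rw [hL3, card_bot]) (by rw [card_bot]; norm_num) ?_
      (fun γ _ z hz => by rw [mem_bot.mp hz, map_one]; exact one_mem _)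
    intro γ hγ a ha
    obtain ⟨k, rfl⟩ := mem_zpowers_iff.mp ha
    rw [map_zpow]
    exact zpow_mem (hcon γ hγ) k
  set e2 := γ e1 with he2
  have hgen : ∀ H : Subgroup E, e1 ∈ H → e2 ∈ H → ∀ e, e ∈ H := fun H h1 h2 e => by
    have hsup := PGroup.eq_sup_zpowers_of_card hP (le_top : L1 ≤ ⊤) (by rw [card_top, h9, hL3])
      (mem_top e2) hγ1
    exact (hsup ▸ sup_le (zpowers_le.mpr h1) (zpowers_le.mpr h2) : (⊤ : Subgroup E) ≤ H) (mem_top e)
  have hfix : ∀ w : MulAut E, w e1 = e1 → w e2 = e2 → w = 1 := fun w w1 w2 => MulEquiv.ext fun e =>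
    hgen (MonoidHom.eqLocus w.toMonoidHom (MonoidHom.id E)) w1 w2 e
  have hgen3 : ∀ {c d : E}, d ∈ zpowers c → d ≠ 1 → d = c ∨ d = c⁻¹ := by
    intro c d hd hd1
    obtain ⟨k, rfl⟩ := mem_zpowers_iff.mp hd
    have hc : c ≠ 1 := by rintro rfl; simp at hd1
    rw [← zpow_mod_orderOf, orderOf_eq_prime (hexp c) hc] at hd1 ⊢
    have h := Int.emod_nonneg k (show ((3 : ℕ) : ℤ) ≠ 0 by norm_num)
    have h' := Int.emod_lt_of_pos k (show (0 : ℤ) < ((3 : ℕ) : ℤ) by norm_num)
    rcases (show k % ((3 : ℕ) : ℤ) = 0 ∨ k % ((3 : ℕ) : ℤ) = 1 ∨ k % ((3 : ℕ) : ℤ) = 2 by omega) with e | e | e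
    · rw [e, zpow_zero] at hd1; exact absurd rfl hd1
    · rw [e, zpow_one]; exact Or.inl rfl
    · right
      rw [e]
      refine eq_inv_of_mul_eq_one_left ?_
      calc c ^ (2 : ℤ) * c = c ^ 3 := by rw [show (2 : ℤ) = ((2 : ℕ) : ℤ) from rfl, zpow_natCast, ← pow_succ]
        _ = 1 := hexp c
  obtain ⟨k, hk⟩ := isPGroup_autInducedBy (P := E) hS ⟨u, huA⟩
  have huk : u ^ 3 ^ k = 1 := congrArg Subtype.val hk
  have hodd : Odd (3 ^ k) := Odd.pow (by decide)
  -- unipotent normal forms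
  have hunip : ∀ (c d : E) (w : MulAut E), w ∈ F.autGroup E → w c = c → w d * d⁻¹ ∈ zpowers c → w d ≠ d →
      ∃ w' ∈ F.autGroup E, w' c = c ∧ w' d = c * d := by
    intro c d w hw hc hd hne
    rcases hgen3 hd (fun h => hne (mul_inv_eq_one.mp h)) with e | e
    · exact ⟨w, hw, hc, by rw [← e, inv_mul_cancel_right]⟩
    · refine ⟨w⁻¹, inv_mem hw, ?_, ?_⟩
      · conv_lhs => rw [← hc]
        exact MulAut.inv_apply_self E w c
      · have h : w (c * d) = d := by
          rw [map_mul, hc, show w d = c⁻¹ * d by rw [← e, inv_mul_cancel_right], mul_inv_cancel_left]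
        conv_lhs => rw [← h]
        exact MulAut.inv_apply_self E w _
  have hud : ∀ d, u d * d⁻¹ ∈ L1 := fun d =>
    triv_factor (A := ⊤) (hn L1) le_top (by rw [card_top, h9, hL3]) u hodd huk (fun _ _ => mem_top _)
      (fun a ha => by obtain ⟨k, rfl⟩ := mem_zpowers_iff.mp ha; rw [map_zpow, hue1]; exact ha)
      (mem_top d)
  obtain ⟨v, hv, hv1, hv2⟩ := hunip e1 e2 u huF hue1 (hud e2) fun h => hu1 (hfix u hue1 h)
  set w := γ * u * γ⁻¹ with hw
  have hwF : w ∈ F.autGroup E := mul_mem (mul_mem hγ huF) (inv_mem hγ)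
  have hwγ : ∀ e, w (γ e) = γ (u e) := fun e => by
    simp only [hw, MulAut.mul_apply, MulAut.inv_apply_self]
  have hwd : w e1 * e1⁻¹ ∈ zpowers e2 := by
    obtain ⟨k, hk⟩ := mem_zpowers_iff.mp (hud (γ⁻¹ e1))
    refine mem_zpowers_iff.mpr ⟨k, ?_⟩
    rw [he2, ← map_zpow, hk, map_mul, map_inv, MulAut.apply_inv_self, ← hwγ, MulAut.apply_inv_self]
  obtain ⟨w', hw', hw'1, hw'2⟩ := hunip e2 e1 w hwF (by rw [he2, hwγ, hue1]) hwd fun h => by
    have h1 : w = 1 := hfix w h (by rw [he2, hwγ, hue1])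
    rw [hw, mul_inv_eq_one] at h1
    exact hu1 (mul_left_cancel (h1.trans (mul_one γ).symm))
  refine ⟨v * w' * (v * w'), mul_mem (mul_mem hv hw') (mul_mem hv hw'), fun e => ?_⟩
  have key : ∀ e, (v * w' * (v * w')) e = v (w' (v (w' e))) := fun e => rfl
  let inv' : E →* E := MonoidHom.mk' (fun e => e⁻¹) fun a b => by rw [mul_inv_rev, hcm]
  refine hgen (MonoidHom.eqLocus (v * w' * (v * w')).toMonoidHom inv') ?_ ?_ e
  · show (v * w' * (v * w')) e1 = e1⁻¹
    rw [key, hw'2, map_mul, hv1, hv2]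
    simp only [map_mul, hw'1, hw'2, hv1, hv2]
    letI : CommGroup E := { (inferInstance : Group E) with mul_comm := hcm }
    exact inv_identity_one e1 e2 (hexp e1) (hexp e2)
  · show (v * w' * (v * w')) e2 = e2⁻¹
    rw [key, hw'1, hv2]
    simp only [map_mul, hw'1, hw'2, hv1, hv2]
    letI : CommGroup E := { (inferInstance : Group E) with mul_comm := hcm }
    exact inv_identity_two e1 e2 (hexp e1) (hexp e2)

theorem exponent_three [Fact (Nat.Prime 3)] (hS : IsPGroup 3 S) (hF : F.IsSaturated 3)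
    (hE : F.IsEssential 3 E) (h9 : Nat.card E = 9) (h3 : ∀ x ∈ E, x ^ 3 = 1) (h27 : Nat.card S = 27)
    (d : Data27 S) {x : S} (hx : (x : Ω) ∈ E) (hxC : centralizer ({x} : Set S) ≤ E.subgroupOf S) : ∀ a : S, a ^ 3 = 1 := by
  have hES := hE.1.1
  obtain ⟨φ, hφ, hinv⟩ := inversion hS hF hE h9 h3 h27
  have := finite_of_le (S := S) hES
  have hiso : IsIso F E E (autFn φ) := isIso_autFn hES hφ
  obtain ⟨f, hf, hfe⟩ :=
    (isReceptive_iff.1 (receptive_of_fullyNormalized hS hF hE.2.1)).2 E _ hiso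
  have hfinv : ∀ e ∈ E, f e = e⁻¹ := fun e he => by
    rw [hfe e he, autFn_apply φ he, hinv ⟨e, he⟩]
    rfl
  have hNS : S ≤ Nx S E (autFn φ) := by
    intro g hg
    have hgN : g ∈ normalizerIn S E := by
      refine mem_normalizerIn_of_conj hg fun e he => ?_
      have hn : (E.subgroupOf S).Normal := by
        refine PGroup.isCoatom_normal hS ⟨?_, fun H hH => ?_⟩
        · exact fun h => (lt_of_essential hS hF hE).not_ge (subgroupOf_eq_top.mp h)
        · have h := PGroup.mul_card_le_of_lt hS hH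
          rw [Nat.card_congr (subgroupOfEquivOfLe hES).toEquiv, h9] at h
          exact eq_top_of_le_card H (by omega)
      exact hn.conj_mem ⟨e, hES he⟩ he ⟨g, hg⟩
    refine mem_Nx.mpr ⟨hgN, g, hg, fun e he => ?_⟩
    rw [autFn_apply φ (normalizerIn_conj hgN he), autFn_apply φ he, hinv, hinv]
    show (g * e * g⁻¹)⁻¹ = g * e⁻¹ * g⁻¹
    group
  have hfS := hf.mono hNS
  let ψ : S →* S := MonoidHom.mk' (fun a => ⟨f a, hfS.mem a.2⟩)
    fun a b => Subtype.ext (hfS.map_mul a.2 b.2)
  have hψ : ∀ e : S, (e : Ω) ∈ E → ψ e = e⁻¹ := fun e he => Subtype.ext (hfinv _ he)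
  have hZ : Subgroup.center S ≤ E.subgroupOf S := (Subgroup.center_le_centralizer _).trans (centralizer_le hE)
  intro a
  have hψx : ψ x = x⁻¹ := hψ x hx
  have h1 : ⁅x, ψ a⁆ = ⁅x, a⁆ := by
    have h2 : ⁅x⁻¹, ψ a⁆ = ⁅x, a⁆⁻¹ := by
      rw [← hψx, ← map_commutatorElement, hψ _ (hZ (d.comm x a))]
    have h4 : ⁅x⁻¹, ψ a⁆ = ⁅x, ψ a⁆⁻¹ := by
      refine eq_inv_of_mul_eq_one_left ?_
      rw [show ⁅x⁻¹, ψ a⁆ * ⁅x, ψ a⁆ = ⁅x⁻¹ * x, ψ a⁆ by
        rw [commutatorElement_mul_left_eq_conj_mul, mem_center_iff.mp (d.comm x (ψ a)) x⁻¹,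
          mul_inv_cancel_right, mem_center_iff.mp (d.comm x (ψ a)) ⁅x⁻¹, ψ a⁆],
        inv_mul_cancel, commutatorElement_one_left]
    exact inv_injective (h4.symm.trans h2)
  have he : a⁻¹ * ψ a ∈ E.subgroupOf S := by
    refine hxC (mem_centralizer_singleton_iff.mpr ?_)
    rw [commutatorElement_def, commutatorElement_def] at h1
    have h5 : ψ a * x⁻¹ * (ψ a)⁻¹ = a * x⁻¹ * a⁻¹ := by
      have := congrArg (fun t => x⁻¹ * t) h1
      simpa only [mul_assoc, inv_mul_cancel_left] using this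
    have h6 : ψ a * x * (ψ a)⁻¹ = a * x * a⁻¹ := by
      have := congrArg (fun t => t⁻¹) h5
      simpa [mul_assoc] using this
    calc a⁻¹ * ψ a * x = a⁻¹ * (ψ a * x * (ψ a)⁻¹) * ψ a := by group
      _ = a⁻¹ * (a * x * a⁻¹) * ψ a := by rw [h6]
      _ = x * (a⁻¹ * ψ a) := by group
  set e := a⁻¹ * ψ a with hedef
  have he3 : e ^ 3 = 1 := Subtype.ext (by simpa using h3 _ he)
  have h7 : ψ (a ^ 3) = a ^ 3 := by
    rw [map_pow, show ψ a = a * e by rw [hedef, mul_inv_cancel_left],
      PGroup.mul_pow_classTwo Nat.prime_three (by norm_num) d.comm (he3 ▸ one_mem _), he3, mul_one]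
  rw [hψ _ (hZ (d.pow a))] at h7
  have h8 : (a ^ 3) ^ 2 = 1 := by
    rw [pow_two]
    nth_rw 1 [← h7]
    rw [inv_mul_cancel]
  obtain ⟨k, hk⟩ := hS a
  have h9' : (a ^ 3) ^ 3 ^ k = 1 := by rw [← pow_mul, mul_comm, pow_mul, hk, one_pow]
  refine orderOf_eq_one_iff.mp (Nat.dvd_one.mp ?_)
  rw [← Nat.coprime_iff_gcd_eq_one.mp (Nat.Coprime.pow_right k (by norm_num : Nat.Coprime 2 3))]
  exact Nat.dvd_gcd (orderOf_dvd_of_pow_eq_one h8) (orderOf_dvd_of_pow_eq_one h9')

end Cfsg.Agent.Pearl
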