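import Cfsg.Agent.Lib.Pearl.Basic
import Cfsg.Agent.Lib.BurnsideBasis.Basic

/-!
# Every subgroup is 2-generated

`Ctx.twoGen` : a group in context `Ctx` with `n ≥ 5` has all subgroups 2-generated;
`Ctx.four` : for `n = 4` the alternative is the Sylow 3-subgroup of `Perm (Fin 9)`.
-/

set_option linter.style.haveILetI false
set_option linter.unusedSectionVars false
set_option autoImplicit false

open Subgroup
open scoped commutatorElement

universe u

namespace Cfsg.Agent.Pearl

/-- The subgroup is generated by two elements. -/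
def TwoGen {X : Type u} [Group X] (H : Subgroup X) : Prop := ∃ a b : X, closure ({a, b} : Set X) = H

/-- The layers: a maximal subgroup followed by the lower central series. -/
def J {X : Type u} [Group X] (M : Subgroup X) (i : ℕ) : Subgroup X := if i = 0 then M else L X i

theorem J_zero {X : Type u} [Group X] (M : Subgroup X) : J M 0 = M := if_pos rfl

theorem J_pos {X : Type u} [Group X] (M : Subgroup X) {i : ℕ} (hi : 1 ≤ i) : J M i = L X i :=
  if_neg (by omega)

/-- The maximal subgroup with its cube and commutator structure. -/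
structure Data (X : Type u) [Group X] (n : ℕ) (M : Subgroup X) : Prop where
  card : Nat.card M = 3 ^ (n - 1)
  le : L X 1 ≤ M
  comm : ∀ i, 1 ≤ i → ⁅L X i, M⁆ ≤ L X (i + 2)
  cent : ∀ y, y ∉ M → Nat.card (centralizer ({y} : Set X)) = 9
  cube : ∀ i, i + 4 ≤ n → ∀ g ∈ J M i, g ∉ J M (i + 1) → g ^ 3 ∈ J M (i + 2) ∧ g ^ 3 ∉ J M (i + 3)

variable {X : Type u} [Group X] [Finite X] [hp : Fact (Nat.Prime 3)]

omit hp in
theorem twoGen_map {Y : Type u} [Group Y] (f : Y →* X) {H : Subgroup Y} (h : TwoGen H) : TwoGen (H.map f) := by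
  obtain ⟨a, b, e⟩ := h
  exact ⟨f a, f b, by rw [← e, MonoidHom.map_closure, Set.image_pair]⟩

theorem twoGen_of_index (hX : IsPGroup 3 X) {H : Subgroup X} (h : (frattini H).index ≤ 9) : TwoGen H := by
  obtain ⟨m, hm⟩ := PGroup.exists_card_eq_pow (hX.to_subgroup H)
  obtain ⟨r, hr⟩ := IsPGroup.index (hX.to_subgroup H) (frattini H)
  have hr2 : r ≤ 2 := (Nat.pow_le_pow_iff_right (by norm_num : 1 < 3)).mp (by rw [← hr]; exact h)
  obtain ⟨f, hf⟩ := BurnsideBasis.exists_generating hm hr
  let g : ℕ → H := fun i => if hi : i < r then f ⟨i, hi⟩ else 1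
  have htop : TwoGen (⊤ : Subgroup H) := by
    refine ⟨g 0, g 1, top_le_iff.mp ?_⟩
    rw [← hf, closure_le]
    rintro _ ⟨⟨i, hi⟩, rfl⟩
    refine subset_closure ?_
    have : i = 0 ∨ i = 1 := by omega
    rcases this with rfl | rfl <;> simp [g, hi]
  have := twoGen_map H.subtype htop
  rwa [← MonoidHom.range_eq_map, range_subtype] at this

theorem twoGen_of_card (hX : IsPGroup 3 X) {H : Subgroup X} (h : Nat.card H ≤ 9) : TwoGen H :=
  twoGen_of_index hX ((Nat.le_of_dvd Nat.card_pos (frattini H).index_dvd_card).trans h)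

theorem twoGen_of_cent {n : ℕ} (hn : Nat.card X = 3 ^ n) {H : Subgroup X} {y : X} (hyH : y ∈ H)
    (hy : Nat.card (centralizer ({y} : Set X)) = 9) : TwoGen H := by
  have hX : IsPGroup 3 X := IsPGroup.of_card hn
  rcases Nat.lt_or_ge (Nat.card H) 27 with h | h
  · refine twoGen_of_card hX ?_
    obtain ⟨m, hm⟩ := PGroup.exists_card_eq_pow (hX.to_subgroup H)
    rw [hm] at h ⊢
    have : m < 3 := (Nat.pow_lt_pow_iff_right (by norm_num : 1 < 3)).mp h
    calc 3 ^ m ≤ 3 ^ 2 := Nat.pow_le_pow_right (by norm_num) (by omega)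
      _ = 9 := by norm_num
  obtain ⟨m, hm⟩ := PGroup.exists_card_eq_pow (hX.to_subgroup H)
  have h3 : 3 ≤ m := (Nat.pow_le_pow_iff_right (by norm_num : 1 < 3)).mp
    (show 3 ^ 3 ≤ 3 ^ m by rw [← hm]; exact h)
  set C := centralizer ({(⟨y, hyH⟩ : H)} : Set H) with hC
  have hC9 : Nat.card C = 3 ^ 2 := by
    refine le_antisymm ?_ (nine_le_centralizer h3 hm _)
    rw [show (3 : ℕ) ^ 2 = 9 by norm_num, ← hy]
    refine Nat.card_le_card_of_injective (fun g => (⟨((g : H) : X), ?_⟩ : centralizer ({y} : Set X))) ?_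
    · exact mem_centralizer_singleton_iff.mpr (congrArg Subtype.val (mem_centralizer_singleton_iff.mp g.2))
    · intro a b e
      exact Subtype.ext (Subtype.ext (by simpa using e))
  have hCC : centralizer (C : Set H) = C := by
    refine le_antisymm (centralizer_le fun a (ha : a = (⟨y, hyH⟩ : H)) =>
      ha ▸ mem_centralizer_singleton_iff.mpr rfl) fun u hu => mem_centralizer_iff.mpr fun v hv =>
      congrArg Subtype.val ((IsPGroup.isMulCommutative_of_card_eq_prime_sq hC9).is_comm.comm ⟨v, hv⟩ ⟨u, hu⟩)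
  have hcl := PGroup.maximal_class_of_selfCentralizing m H hm C hC9 hCC
  have hL := PGroup.card_lcs_of_maximal_class h3 hm hcl (le_refl 1) (by omega)
  rw [Subgroup.top_lowerCentralSeries_one] at hL
  refine twoGen_of_index hX ((Nat.le_of_dvd ?_ (index_dvd_of_le
    (PGroup.commutator_le_frattini (hX.to_subgroup H)))).trans ?_)
  · exact Nat.pos_of_ne_zero index_ne_zero_of_finite
  · have h1 := (_root_.commutator H).card_mul_index
    rw [hL, hm, show m = (m - 1 - 1) + 2 by omega, pow_add, show m - 1 - 1 + 2 - 1 - 1 = m - 1 - 1 by omega] at h1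
    exact (Nat.eq_of_mul_eq_mul_left (pow_pos (by norm_num) _) h1).le.trans (by norm_num)

namespace Ctx

variable {n : ℕ} {x : X} (c : Ctx X n x)

include c

theorem index_of_card {M : Subgroup X} (hM : Nat.card M = 3 ^ (n - 1)) : M.index = 3 := by
  have h := M.card_mul_index
  rw [hM, c.card, show n = n - 1 + 1 by have := c.three_le; omega, pow_succ,
    show n - 1 + 1 - 1 = n - 1 by omega] at h
  exact Nat.eq_of_mul_eq_mul_left (pow_pos (by norm_num) _) h

theorem sup_eq_top {M : Subgroup X} (hM : M.index = 3) {y : X} (hy : y ∉ M) : M ⊔ zpowers y = ⊤ :=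
  PGroup.eq_sup_zpowers_of_card c.pGroup le_top
    (by rw [card_top, ← M.card_mul_index, hM, mul_comm]) (mem_top y) hy

/-- Outside a maximal subgroup centralizing `W` the centralizers have order 9. -/
theorem cent_of (h5 : 5 ≤ n) {M : Subgroup X} (hM : M.index = 3)
    (hW : ∀ w ∈ L X (n - 3), ∀ m ∈ M, w * m = m * w) {y : X} (hy : y ∉ M)
    (hq : Nat.card (centralizer ({(QuotientGroup.mk' (center X)) y} : Set (X ⧸ center X))) = 9) :
    Nat.card (centralizer ({y} : Set X)) = 9 := by
  refine le_antisymm ?_ (nine_le_centralizer c.three_le c.card y)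
  have hle : centralizer ({y} : Set X) ≤ K y := fun g hg => by
    rw [mem_K, commutatorElement_eq_one_iff_mul_comm.mpr (mem_centralizer_singleton_iff.mp hg)]
    exact one_mem _
  have hne : centralizer ({y} : Set X) ≠ K y := by
    intro h
    have hWK : L X (n - 3) ≤ K y := fun w hw => by
      rw [mem_K]
      refine c.L_le_center ?_
      exact Subgroup.lowerCentralSeries_antitone _ (by omega : n - 2 ≤ n - 3 + 1)
        (commutator_mem_commutator hw (mem_top y))
    have hWc : L X (n - 3) ≤ center X := fun w hw => by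
      have hle : (⊤ : Subgroup X) ≤ centralizer ({w} : Set X) := by
        rw [← c.sup_eq_top hM hy]
        refine sup_le (fun m hm => mem_centralizer_singleton_iff.mpr (hW w hw m hm).symm) (zpowers_le.mpr ?_)
        exact mem_centralizer_singleton_iff.mpr (mem_centralizer_singleton_iff.mp (h ▸ hWK hw)).symm
      exact mem_center_iff.mpr fun g => mem_centralizer_singleton_iff.mp (hle (mem_top g))
    have h' := Nat.le_of_dvd Nat.card_pos (card_dvd_of_le hWc)
    rw [c.card_center, c.card_L (by omega), show n - 1 - (n - 3) = 2 by omega] at h'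
    omega
  have h := PGroup.mul_card_le_of_lt c.pGroup (lt_of_le_of_ne hle hne)
  rw [c.card_K hq] at h
  omega

theorem base (h5 : n = 5) : ∃ M : Subgroup X, Data X n M := by
  subst h5
  have q4 := c.quot (by omega)
  set q := QuotientGroup.mk' (center X) with hqdef
  set M' := centralizer ((L (X ⧸ center X) 1 : Subgroup (X ⧸ center X)) : Set (X ⧸ center X)) with hM'
  have hxM' : q x ∉ M' := fun h => by
    have hle : L (X ⧸ center X) 1 ≤ center (X ⧸ center X) := fun u hu =>
      q4.mem_center_of_commute hu (mem_centralizer_iff.mp h u hu)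
    have h' := Nat.le_of_dvd Nat.card_pos (card_dvd_of_le hle)
    rw [q4.card_center, q4.card_L le_rfl] at h'
    norm_num at h'
  have hM'i : M'.index = 3 := by
    have h := PGroup.index_centralizer_le q4.pGroup 2 (L (X ⧸ center X) 1) inferInstance
      (by rw [q4.card_L le_rfl])
    obtain ⟨k, hk⟩ := IsPGroup.index q4.pGroup M'
    have hk0 : k ≠ 0 := fun h0 => hxM' (by
      rw [h0, pow_zero, index_eq_one] at hk
      rw [hk]
      exact mem_top _)
    have h31 : 3 ^ 1 ≤ 3 ^ k := Nat.pow_le_pow_right (by norm_num) (by omega)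
    rw [← hM', hk] at h
    norm_num at h h31
    omega
  have hM'c : Nat.card M' = 27 := by
    have h := M'.card_mul_index
    rw [hM'i, q4.card] at h
    norm_num at h
    omega
  set M := M'.comap q with hMdef
  have hMi : M.index = 3 := by
    rw [hMdef, index_comap_of_surjective _ (QuotientGroup.mk'_surjective _), hM'i]
  have hMcard : Nat.card M = 3 ^ (5 - 1) := by
    have h := M.card_mul_index
    rw [hMi, c.card] at h
    norm_num at h ⊢
    omega
  have hL1' : L (X ⧸ center X) 1 ≤ M' := fun u hu => mem_centralizer_iff.mpr fun v hv =>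
    congrArg Subtype.val ((IsPGroup.isMulCommutative_of_card_eq_prime_sq (p := 3)
      (G := L (X ⧸ center X) 1) (by rw [q4.card_L le_rfl])).is_comm.comm ⟨v, hv⟩ ⟨u, hu⟩)
  have hL1 : L X 1 ≤ M := by
    rw [← c.comap_L (i := 1) (by omega)]
    exact comap_mono hL1'
  have hM'ab : ∀ a ∈ M', ∀ b ∈ M', a * b = b * a := by
    intro a ha b hb
    by_cases haL : a ∈ L (X ⧸ center X) 1
    · exact mem_centralizer_iff.mp hb a haL
    · have hsup := PGroup.eq_sup_zpowers_of_card q4.pGroup hL1'
        (by rw [hM'c, q4.card_L le_rfl]; norm_num) ha haL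
      have hle : M' ≤ centralizer ({a} : Set (X ⧸ center X)) := by
        rw [← hsup]
        exact sup_le (fun u hu => mem_centralizer_singleton_iff.mpr (mem_centralizer_iff.mp ha u hu))
          (zpowers_le.mpr (mem_centralizer_singleton_iff.mpr rfl))
      exact (mem_centralizer_singleton_iff.mp (hle hb)).symm
  have hcommZ : ∀ a ∈ L X 1, ∀ m ∈ M, ⁅a, m⁆ ∈ center X := by
    intro a ha m hm
    refine (QuotientGroup.eq_one_iff _).mp (show q ⁅a, m⁆ = 1 from ?_)
    rw [map_commutatorElement, commutatorElement_eq_one_iff_mul_comm]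
    exact mem_centralizer_iff.mp hm _ (by rw [← c.map_L]; exact mem_map_of_mem _ ha)
  -- elements of `M` outside `L₁`
  have hcube0 : ∀ e ∈ M, e ∉ L X 1 → e ^ 3 ∈ L X 2 ∧ e ^ 3 ∉ center X := by
    intro e he heL
    have he3 : e ^ 3 ∈ L X 1 := by
      have h3 : ((L X 1).subgroupOf M).index = 3 := by
        have h := ((L X 1).subgroupOf M).card_mul_index
        rw [Nat.card_congr (subgroupOfEquivOfLe hL1).toEquiv, c.card_L le_rfl, hMcard] at h
        rw [show (3 : ℕ) ^ (5 - 1 - 1) = 27 by norm_num, show (3 : ℕ) ^ (5 - 1) = 81 by norm_num] at h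
        omega
      have h := ((L X 1).subgroupOf M).pow_index_mem ⟨e, he⟩
      rw [h3] at h
      exact mem_subgroupOf.mp h
    set u := ⁅x, e⁆ with hu
    have hu1 : u ∈ L X 1 := commutator_mem_commutator (mem_top x) (mem_top e)
    have huW : u ∉ L X 2 := by
      intro huW
      set r := QuotientGroup.mk' (L X 2) with hr
      set H := (centralizer ({r x} : Set (X ⧸ L X 2))).comap r with hH
      have memH : ∀ g, g ∈ H ↔ ⁅g, x⁆ ∈ L X 2 := fun g => by
        rw [hH, mem_comap, mem_centralizer_singleton_iff, ← commutatorElement_eq_one_iff_mul_comm,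
          ← map_commutatorElement]
        exact QuotientGroup.eq_one_iff _
      have hxM : x ∉ M := hxM'
      have hMH : M ≤ H := by
        rw [← PGroup.eq_sup_zpowers_of_card c.pGroup hL1
          (by rw [hMcard, c.card_L le_rfl]; norm_num) he heL]
        refine sup_le (fun a ha => (memH a).mpr (commutator_mem_commutator ha (mem_top x))) ?_
        rw [zpowers_le, memH, ← commutatorElement_inv]
        exact inv_mem huW
      have htop : (⊤ : Subgroup X) ≤ H := by
        rw [← c.sup_eq_top hMi hxM]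
        refine sup_le hMH (zpowers_le.mpr ((memH x).mpr ?_))
        rw [commutatorElement_self]
        exact one_mem _
      have hle : L X 1 ≤ L X 2 := fun a ha => by
        obtain ⟨g, hg⟩ := c.exists_conj ha
        have h := (memH g).mp (htop (mem_top g))
        rwa [commutatorElement_def, hg, mul_assoc, mul_inv_cancel, mul_one] at h
      have h' := Nat.le_of_dvd Nat.card_pos (card_dvd_of_le hle)
      rw [c.card_L le_rfl, c.card_L (by omega : 1 ≤ 2)] at h'
      norm_num at h'
    obtain ⟨hu3, hu31⟩ := c.cube_U le_rfl (a := u) hu1 huW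
    set zc := ⁅e, u⁆ with hzc
    have hzcZ : zc ∈ center X := by
      rw [hzc, ← commutatorElement_inv]
      exact inv_mem (hcommZ u hu1 e he)
    have hz3 : zc ^ 3 = 1 := by
      have h := pow_card_eq_one' (G := center X) (x := ⟨_, hzcZ⟩)
      rw [c.card_center] at h
      exact congrArg Subtype.val h
    have hz := mem_center_iff.mp hzcZ
    have e1 : x * e ^ 3 * x⁻¹ = u ^ 3 * e ^ 3 := by
      rw [← conj_pow, show x * e * x⁻¹ = u * e by rw [hu, commutatorElement_def]; group]
      have f1 : e * u * e⁻¹ = zc * u := by rw [hzc, commutatorElement_def]; group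
      have f2 : e * (e * u * e⁻¹) * e⁻¹ = zc * (zc * u) := by
        rw [f1, show e * (zc * u) * e⁻¹ = e * zc * (u * e⁻¹) by group, hz e,
          show zc * e * (u * e⁻¹) = zc * (e * u * e⁻¹) by group, f1]
      rw [show (u * e) ^ 3 = u * (e * u * e⁻¹) * (e * (e * u * e⁻¹) * e⁻¹) * e ^ 3 by
        rw [pow_succ, pow_two, pow_succ, pow_two]; group, f2, f1]
      congr 1
      calc u * (zc * u) * (zc * (zc * u)) = zc ^ 3 * u ^ 3 := by
            have hC : Commute u zc := hz u
            rw [← hC.symm.mul_pow, pow_succ, pow_two]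
            simp only [mul_assoc]
            rw [hC.left_comm]
            congr 2
            rw [hC.left_comm, hC.left_comm]
        _ = u ^ 3 := by rw [hz3, one_mul]
    have hcx : ⁅x, e ^ 3⁆ = u ^ 3 := by rw [commutatorElement_def, e1, mul_inv_cancel_right]
    refine ⟨c.mem_W (by omega) he3 ?_, fun h => hu31 ?_⟩
    · rw [← commutatorElement_inv, hcx]
      exact inv_mem (by rw [c.center_eq]; exact hu3)
    · rw [← hcx]
      exact commutatorElement_eq_one_iff_mul_comm.mpr (mem_center_iff.mp h x)
  have hW : ∀ w ∈ L X 2, ∀ m ∈ M, w * m = m * w := by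
    intro w hw m hm
    by_cases hmL : m ∈ L X 1
    · exact c.commute_U le_rfl (Subgroup.lowerCentralSeries_antitone _ (by omega : 1 ≤ 2) hw) hmL
    · obtain ⟨h1, h2⟩ := hcube0 m hm hmL
      have hsup : L X 3 ⊔ zpowers (m ^ 3) = L X 2 := PGroup.eq_sup_zpowers_of_card c.pGroup
        (Subgroup.lowerCentralSeries_antitone _ (by omega))
        (by rw [c.card_L (by omega : 1 ≤ 2), c.card_L (by omega : 1 ≤ 3)]; norm_num) h1
        (fun h => h2 (by rw [c.center_eq]; exact h))
      have hle : L X 2 ≤ centralizer ({m} : Set X) := by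
        rw [← hsup]
        refine sup_le ?_ (zpowers_le.mpr (mem_centralizer_singleton_iff.mpr (Commute.pow_self m 3).eq))
        rw [← c.center_eq]
        exact center_le_centralizer _
      exact mem_centralizer_singleton_iff.mp (hle hw)
  refine ⟨M, hMcard, hL1, ?_, ?_, ?_⟩
  · intro i hi
    rw [commutator_le]
    intro a ha m hm
    rcases (show i = 1 ∨ i = 2 ∨ 3 ≤ i by omega) with rfl | rfl | h3
    · exact c.center_eq ▸ hcommZ a ha m hm
    · rw [commutatorElement_eq_one_iff_mul_comm.mpr (hW a ha m hm)]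
      exact one_mem _
    · have hac : a ∈ center X := c.L_le_center (Subgroup.lowerCentralSeries_antitone _ h3 ha)
      rw [commutatorElement_eq_one_iff_mul_comm.mpr (mem_center_iff.mp hac m).symm]
      exact one_mem _
  · intro y hy
    refine c.cent_of le_rfl hMi hW hy (le_antisymm ?_ (nine_le_centralizer q4.three_le q4.card _))
    have hle : centralizer ({q y} : Set (X ⧸ center X)) ⊓ M' ≤ center (X ⧸ center X) := by
      intro g hg
      have htop : (⊤ : Subgroup (X ⧸ center X)) ≤ centralizer ({g} : Set (X ⧸ center X)) := by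
        rw [← q4.sup_eq_top hM'i (show q y ∉ M' from hy)]
        exact sup_le (fun m hm => mem_centralizer_singleton_iff.mpr (hM'ab m hm g hg.2))
          (zpowers_le.mpr (mem_centralizer_singleton_iff.mpr (mem_centralizer_singleton_iff.mp hg.1).symm))
      exact mem_center_iff.mpr fun t => mem_centralizer_singleton_iff.mp (htop (mem_top t))
    have h1 := PGroup.card_le_card_inf_mul_index (centralizer ({q y} : Set (X ⧸ center X))) M'
    rw [hM'i] at h1
    have h2 := Nat.le_of_dvd Nat.card_pos (card_dvd_of_le hle)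
    rw [q4.card_center] at h2
    show Nat.card (centralizer ({q y} : Set (X ⧸ center X))) ≤ 9
    omega
  · intro i hi g hg hg'
    rcases (show i = 0 ∨ i = 1 by omega) with rfl | rfl
    · rw [J_zero] at hg
      rw [J_pos M (by omega)] at hg'
      rw [J_pos M (by omega), J_pos M (by omega)]
      obtain ⟨h1, h2⟩ := hcube0 g hg hg'
      exact ⟨h1, fun h => h2 (by rw [c.center_eq]; exact h)⟩
    · rw [J_pos M le_rfl] at hg
      rw [J_pos M (by omega)] at hg'
      rw [J_pos M (by omega), J_pos M (by omega)]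
      obtain ⟨h1, h2⟩ := c.cube_U le_rfl hg hg'
      exact ⟨h1, fun h => h2 (by rw [c.L_bot (by omega), mem_bot] at h; exact h)⟩

theorem step (h6 : 6 ≤ n) {M' : Subgroup (X ⧸ center X)} (d : Data (X ⧸ center X) (n - 1) M') :
    ∃ M : Subgroup X, Data X n M := by
  have cq := c.quot (by omega)
  set q := QuotientGroup.mk' (center X) with hqdef
  set M := M'.comap q with hMdef
  have hMi : M.index = 3 := by
    rw [hMdef, index_comap_of_surjective _ (QuotientGroup.mk'_surjective _), cq.index_of_card d.card]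
  have hMcard : Nat.card M = 3 ^ (n - 1) := by
    have h := M.card_mul_index
    rw [hMi, c.card, show 3 ^ n = 3 ^ (n - 1) * 3 by rw [← pow_succ, show n - 1 + 1 = n by omega]] at h
    omega
  have hL1 : L X 1 ≤ M := by
    rw [← c.comap_L (i := 1) (by omega)]
    exact comap_mono d.le
  have hJ : ∀ j, j ≤ n - 2 → J M j = (J M' j).comap q := fun j hj => by
    rcases Nat.eq_zero_or_pos j with rfl | h
    · rw [J_zero, J_zero]
    · rw [J_pos M h, J_pos M' h, c.comap_L hj]
  have hcomm : ∀ i, 1 ≤ i → i + 2 ≤ n - 2 → ∀ a ∈ L X i, ∀ m ∈ M, ⁅a, m⁆ ∈ L X (i + 2) := by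
    intro i hi hi2 a ha m hm
    rw [← c.comap_L hi2, mem_comap, map_commutatorElement]
    exact d.comm i hi (commutator_mem_commutator (by rw [← c.map_L]; exact mem_map_of_mem _ ha) hm)
  -- `M` centralizes `W`
  obtain ⟨t, ht, htU⟩ : ∃ t ∈ L X (n - 5), t ∉ L X (n - 4) := by
    refine SetLike.exists_of_lt (lt_of_le_of_ne (Subgroup.lowerCentralSeries_antitone _ (by omega)) fun h => ?_)
    have h' := congrArg (fun H : Subgroup X => Nat.card H) h
    simp only [c.card_L (show 1 ≤ n - 5 by omega), c.card_L (show 1 ≤ n - 4 by omega)] at h'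
    have := Nat.pow_right_injective (by norm_num : 2 ≤ 3) h'
    omega
  have ht3 : t ^ 3 ∈ L X (n - 3) ∧ t ^ 3 ∉ L X (n - 2) := by
    have h1 : q t ∈ J M' (n - 5) := by
      rw [← mem_comap, ← hJ _ (by omega), J_pos M (by omega)]; exact ht
    have h2 : q t ∉ J M' (n - 5 + 1) := by
      rw [← mem_comap, ← hJ _ (by omega), J_pos M (by omega), show n - 5 + 1 = n - 4 by omega]; exact htU
    have h := d.cube (n - 5) (by omega) _ h1 h2
    rw [← map_pow, ← mem_comap, ← hJ _ (by omega), ← mem_comap, ← hJ _ (by omega), J_pos M (by omega),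
      J_pos M (by omega), show n - 5 + 2 = n - 3 by omega, show n - 5 + 3 = n - 2 by omega] at h
    exact h
  have hsup : L X (n - 2) ⊔ zpowers (t ^ 3) = L X (n - 3) := PGroup.eq_sup_zpowers_of_card c.pGroup
    (Subgroup.lowerCentralSeries_antitone _ (by omega))
    (by
      rw [c.card_L (by omega), c.card_L (by omega), ← pow_succ',
        show n - 1 - (n - 2) + 1 = n - 1 - (n - 3) by omega]) ht3.1 ht3.2
  have hW : ∀ w ∈ L X (n - 3), ∀ m ∈ M, w * m = m * w := by
    intro w hw m hm
    have hc : t ^ 3 ∈ centralizer ({m} : Set X) := by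
      set w₀ := ⁅m, t⁆ with hw₀
      have hw0 : w₀ ∈ L X (n - 3) := by
        rw [hw₀, ← commutatorElement_inv, show n - 3 = n - 5 + 2 by omega]
        exact inv_mem (hcomm (n - 5) (by omega) (by omega) t ht m hm)
      have hct : Commute w₀ t := by
        have h := commutator_L (n - 3) (n - 5) (commutator_mem_commutator hw0 ht)
        rw [c.L_bot (by omega), mem_bot, commutatorElement_eq_one_iff_mul_comm] at h
        exact h
      have e1 : m * t ^ 3 * m⁻¹ = t ^ 3 := by
        rw [← conj_pow, show m * t * m⁻¹ = w₀ * t by rw [hw₀, commutatorElement_def]; group,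
          hct.mul_pow, c.pow_W (by omega) hw0, one_mul]
      rw [mem_centralizer_singleton_iff]
      exact (mul_inv_eq_iff_eq_mul.mp e1).symm
    have hle : L X (n - 3) ≤ centralizer ({m} : Set X) := by
      rw [← hsup]
      exact sup_le (c.L_le_center.trans (center_le_centralizer _)) (zpowers_le.mpr hc)
    exact mem_centralizer_singleton_iff.mp (hle hw)
  refine ⟨M, hMcard, hL1, ?_, ?_, ?_⟩
  · intro i hi
    rw [commutator_le]
    intro a ha m hm
    rcases (show i + 2 ≤ n - 2 ∨ i = n - 3 ∨ n - 2 ≤ i by omega) with h | h | h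
    · exact hcomm i hi h a ha m hm
    · rw [commutatorElement_eq_one_iff_mul_comm.mpr (hW a (h ▸ ha) m hm)]
      exact one_mem _
    · have hac : a ∈ center X := c.L_le_center (Subgroup.lowerCentralSeries_antitone _ h ha)
      rw [commutatorElement_eq_one_iff_mul_comm.mpr (mem_center_iff.mp hac m).symm]
      exact one_mem _
  · intro y hy
    exact c.cent_of (by omega) hMi hW hy (d.cent _ hy)
  · intro i hi g hg hg'
    rcases (show i + 5 ≤ n ∨ i = n - 4 by omega) with h | h
    · rw [hJ i (by omega), mem_comap] at hg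
      rw [hJ (i + 1) (by omega), mem_comap] at hg'
      rw [hJ (i + 2) (by omega), hJ (i + 3) (by omega), mem_comap, mem_comap, map_pow]
      exact d.cube i (by omega) _ hg hg'
    · subst h
      rw [J_pos M (by omega)] at hg hg'
      rw [J_pos M (by omega), J_pos M (by omega)]
      rw [show n - 4 + 1 = n - 3 by omega] at hg'
      rw [show n - 4 + 2 = n - 2 by omega, show n - 4 + 3 = n - 1 by omega, c.L_bot le_rfl, mem_bot]
      exact c.cube_U (by omega) hg hg'

omit c in
theorem exists_data : ∀ (n : ℕ) (X : Type u) [Group X] [Finite X] (x : X), Ctx X n x → 5 ≤ n →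
    ∃ M : Subgroup X, Data X n M := by
  intro n
  induction n with
  | zero => intro X _ _ x _ h; omega
  | succ n ih =>
    intro X _ _ x c h5
    rcases h5.eq_or_lt with h | h
    · exact c.base h.symm
    · obtain ⟨M', d⟩ := ih _ (QuotientGroup.mk' (center X) x)
        (by simpa using c.quot (by omega)) (by omega)
      exact c.step (by omega) (by simpa using d)

theorem card_J {M : Subgroup X} (hM : Nat.card M = 3 ^ (n - 1)) (i : ℕ) :
    Nat.card (J M i) = 3 ^ (n - 1 - i) := by
  rcases Nat.eq_zero_or_pos i with rfl | h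
  · rw [J_zero, hM, Nat.sub_zero]
  · rw [J_pos M h, c.card_L h]

theorem twoGen (h5 : 5 ≤ n) (H : Subgroup X) : TwoGen H := by
  obtain ⟨M, d⟩ := exists_data n X x c h5
  by_cases hHM : H ≤ M
  swap
  · obtain ⟨y, hyH, hyM⟩ := SetLike.not_le_iff_exists.mp hHM
    exact twoGen_of_cent c.card hyH (d.cent y hyM)
  classical
  have hanti : ∀ i, J M (i + 1) ≤ J M i := fun i => by
    rcases Nat.eq_zero_or_pos i with rfl | h
    · rw [J_zero, J_pos M le_rfl]; exact d.le
    · rw [J_pos M h, J_pos M (by omega)]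
      exact Subgroup.lowerCentralSeries_antitone _ (Nat.le_succ i)
  have hbot : ∀ i, n - 1 ≤ i → J M i = ⊥ := fun i hi => by rw [J_pos M (by omega), c.L_bot hi]
  have hpow : ∀ i₀, ∀ a ∈ J M i₀, a ∉ J M (i₀ + 1) → ∀ t, i₀ + 2 * t ≤ n - 2 →
      a ^ 3 ^ t ∈ J M (i₀ + 2 * t) ∧ a ^ 3 ^ t ∉ J M (i₀ + 2 * t + 1) := by
    intro i₀ a ha ha' t
    induction t with
    | zero => intro _; simpa using ⟨ha, ha'⟩
    | succ t ih =>
      intro ht
      obtain ⟨h1, h2⟩ := ih (by omega)
      have h := d.cube (i₀ + 2 * t) (by omega) _ h1 h2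
      rw [← pow_mul, ← pow_succ] at h
      rwa [show i₀ + 2 * (t + 1) = i₀ + 2 * t + 2 by omega]
  have hpick : ∀ ε : ℕ, ∃ a ∈ H, ∀ i, i % 2 = ε → (∃ g ∈ H, g ∈ J M i ∧ g ∉ J M (i + 1)) →
      ∃ k ∈ zpowers a, k ∈ J M i ∧ k ∉ J M (i + 1) := by
    intro ε
    by_cases h : ∃ i, i % 2 = ε ∧ ∃ g ∈ H, g ∈ J M i ∧ g ∉ J M (i + 1)
    swap
    · exact ⟨1, one_mem _, fun i hi hg => absurd ⟨i, hi, hg⟩ h⟩
    obtain ⟨h0, a, haH, ha, ha'⟩ := Nat.find_spec h
    refine ⟨a, haH, fun i hi hg => ?_⟩
    have hle : Nat.find h ≤ i := Nat.find_le ⟨hi, hg⟩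
    have hin : i ≤ n - 2 := by
      by_contra hin
      obtain ⟨g, -, hg1, hg2⟩ := hg
      rw [hbot i (by omega), mem_bot] at hg1
      exact hg2 (hg1 ▸ one_mem _)
    refine ⟨a ^ 3 ^ ((i - Nat.find h) / 2), pow_mem (mem_zpowers a) _, ?_⟩
    have := hpow _ a ha ha' ((i - Nat.find h) / 2) (by omega)
    rwa [show Nat.find h + 2 * ((i - Nat.find h) / 2) = i by omega] at this
  obtain ⟨a, haH, ha⟩ := hpick 0
  obtain ⟨b, hbH, hb⟩ := hpick 1
  set K := closure ({a, b} : Set X) with hK
  have haK : a ∈ K := subset_closure (Set.mem_insert a _)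
  have hbK : b ∈ K := subset_closure (Set.mem_insert_of_mem a rfl)
  have hKH : K ≤ H := (closure_le _).mpr (by rintro g (rfl | rfl) <;> assumption)
  have hmain : ∀ e i, i + e = n - 1 → H ⊓ J M i ≤ K := by
    intro e
    induction e with
    | zero =>
      intro i hi g hg
      have h2 : g ∈ J M i := hg.2
      rw [hbot i (by omega), mem_bot] at h2
      exact h2 ▸ one_mem _
    | succ e ih =>
      intro i hi g hg
      by_cases hg1 : g ∈ J M (i + 1)
      · exact ih (i + 1) (by omega) ⟨hg.1, hg1⟩
      obtain ⟨k, hkK, hk, hk'⟩ : ∃ k ∈ K, k ∈ J M i ∧ k ∉ J M (i + 1) := by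
        rcases Nat.mod_two_eq_zero_or_one i with hm | hm
        · obtain ⟨k, hk, h⟩ := ha i hm ⟨g, hg.1, hg.2, hg1⟩
          exact ⟨k, zpowers_le.mpr haK hk, h⟩
        · obtain ⟨k, hk, h⟩ := hb i hm ⟨g, hg.1, hg.2, hg1⟩
          exact ⟨k, zpowers_le.mpr hbK hk, h⟩
      have hsup : J M (i + 1) ⊔ zpowers k = J M i := PGroup.eq_sup_zpowers_of_card c.pGroup (hanti i)
        (by
          rw [c.card_J d.card, c.card_J d.card, ← pow_succ', show n - 1 - (i + 1) + 1 = n - 1 - i by omega])
        hk hk'
      have hn : (J M (i + 1)).Normal := by rw [J_pos M (by omega)]; infer_instance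
      have h2 : g ∈ J M i := hg.2
      rw [← hsup] at h2
      obtain ⟨u, hu, w, hw, e'⟩ := mem_sup_of_normal_left.mp h2
      have hwK : w ∈ K := zpowers_le.mpr hkK hw
      have huH : u ∈ H := by
        rw [show u = g * w⁻¹ by rw [← e']; group]
        exact mul_mem hg.1 (inv_mem (hKH hwK))
      rw [← e']
      exact mul_mem (ih (i + 1) (by omega) ⟨huH, hu⟩) hwK
  refine ⟨a, b, le_antisymm hKH fun g hg => hmain (n - 1) 0 (by omega) ⟨hg, ?_⟩⟩
  rw [J_zero]
  exact hHM hg

theorem four (h4 : n = 4) : (∀ H : Subgroup X, TwoGen H) ∨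
    ∃ W : Sylow 3 (Equiv.Perm (Fin 9)), Nonempty (X ≃* (W : Subgroup (Equiv.Perm (Fin 9)))) := by
  subst h4
  by_cases hA : ∃ A : Subgroup X, Nat.card A = 27 ∧ frattini A = ⊥
  · right
    obtain ⟨A, hA27, hAΦ⟩ := hA
    have hAi : A.index = 3 := c.index_of_card hA27
    have hAp := c.pGroup.to_subgroup A
    have hcomm : ∀ a b : A, a * b = b * a := fun a b => by
      have h := PGroup.commutatorElement_mem_frattini hAp a b
      rwa [hAΦ, mem_bot, commutatorElement_eq_one_iff_mul_comm] at h
    have hexp : ∀ a : A, a ^ 3 = 1 := fun a => by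
      have h := PGroup.pow_mem_frattini hAp a
      rwa [hAΦ, mem_bot] at h
    have hZA : center X ≤ A := by
      intro z hz
      by_contra hzA
      have hle : A ≤ center X := fun a ha => by
        have htop : (⊤ : Subgroup X) ≤ centralizer ({a} : Set X) := by
          rw [← c.sup_eq_top hAi hzA]
          exact sup_le (fun b hb => mem_centralizer_singleton_iff.mpr
            (congrArg Subtype.val (hcomm ⟨b, hb⟩ ⟨a, ha⟩)))
            (zpowers_le.mpr (center_le_centralizer _ hz))
        exact mem_center_iff.mpr fun g => mem_centralizer_singleton_iff.mp (htop (mem_top g))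
      have h' := Nat.le_of_dvd Nat.card_pos (card_dvd_of_le hle)
      rw [c.card_center, hA27] at h'
      omega
    obtain ⟨⟨z, hz⟩, hz1⟩ : ∃ z : center X, z ≠ 1 := by
      have : Nontrivial (center X) := Finite.one_lt_card_iff_nontrivial.mp (by rw [c.card_center]; norm_num)
      exact exists_ne 1
    obtain ⟨N, hN, hzN⟩ := PGroup.exists_isCoatom_not_mem (p := 3) hcomm hexp (x := (⟨z, hZA hz⟩ : A))
      fun h => hz1 (Subtype.ext (congrArg Subtype.val h :))
    set H := N.map A.subtype with hH
    have hH9 : Nat.card H = 9 := by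
      rw [hH, card_map_of_injective A.subtype_injective]
      have h := N.card_mul_index
      rw [PGroup.isCoatom_index hAp hN, hA27] at h
      omega
    have hcore : H.normalCore = ⊥ := by
      by_contra hne
      haveI := H.normalCore_normal
      have hi := PGroup.inf_center_ne_bot c.pGroup hne
      have hd := card_dvd_of_le (inf_le_right : H.normalCore ⊓ center X ≤ center X)
      rw [c.card_center] at hd
      rcases (Nat.dvd_prime Nat.prime_three).mp hd with h | h
      · exact hi (eq_bot_of_card_eq _ h)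
      · have heq := PGroup.eq_of_le_of_card_le (inf_le_right : H.normalCore ⊓ center X ≤ center X)
          (by rw [h, c.card_center])
        have hzH : z ∈ H := H.normalCore_le (heq.ge hz).1
        obtain ⟨w, hw, e⟩ := hzH
        exact hzN (by rwa [show (⟨z, hZA hz⟩ : A) = w from Subtype.ext e.symm])
    have hQ : Nat.card (X ⧸ H) = 9 := by
      have h := H.card_mul_index
      rw [hH9, index_eq_card, c.card] at h
      norm_num at h
      omega
    let f : X →* Equiv.Perm (Fin 9) :=
      ((Finite.equivFinOfCardEq hQ).permCongrHom.toMonoidHom).comp (MulAction.toPermHom X (X ⧸ H))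
    have hinj : Function.Injective f := by
      rw [← MonoidHom.ker_eq_bot_iff, eq_bot_iff]
      intro g hg
      have hg' : g ∈ (MulAction.toPermHom X (X ⧸ H)).ker :=
        MonoidHom.mem_ker.mpr ((Finite.equivFinOfCardEq hQ).permCongrHom.injective
          (by rw [map_one]; exact hg))
      rwa [← normalCore_eq_ker, hcore] at hg'
    have hf : Nat.card f.range = 3 ^ 4 := by
      rw [Nat.card_congr (f.ofInjective hinj).toEquiv.symm, c.card]
    obtain ⟨W, hW⟩ := (IsPGroup.of_card hf).exists_le_sylow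
    have heq : f.range = (W : Subgroup (Equiv.Perm (Fin 9))) := by
      refine PGroup.eq_of_le_of_card_le hW ?_
      obtain ⟨k, hk⟩ := PGroup.exists_card_eq_pow W.2
      rw [hk, hf]
      refine Nat.pow_le_pow_right (by norm_num) ?_
      by_contra hk5
      have hd : 3 ^ 5 ∣ Nat.card (Equiv.Perm (Fin 9)) :=
        (pow_dvd_pow 3 (by omega : 5 ≤ k)).trans (hk ▸ card_subgroup_dvd_card _)
      rw [Nat.card_perm, Nat.card_eq_fintype_card, Fintype.card_fin] at hd
      norm_num [Nat.factorial_succ] at hd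
    exact ⟨W, ⟨(f.ofInjective hinj).trans (MulEquiv.subgroupCongr heq)⟩⟩
  · left
    intro H
    have hd := c.card ▸ card_subgroup_dvd_card H
    obtain ⟨k, hk, hk'⟩ := (Nat.dvd_prime_pow Nat.prime_three).mp hd
    rcases (show k ≤ 2 ∨ k = 3 ∨ k = 4 by omega) with h | rfl | rfl
    · refine twoGen_of_card c.pGroup ?_
      rw [hk']
      exact (Nat.pow_le_pow_right (by norm_num) h).trans (by norm_num)
    · refine twoGen_of_index c.pGroup ?_
      have h1 := (frattini H).card_mul_index
      rw [hk', show (3 : ℕ) ^ 3 = 27 by norm_num] at h1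
      have h2 : Nat.card (frattini H) ≠ 1 := fun h =>
        hA ⟨H, by rw [hk']; norm_num, eq_bot_of_card_eq _ h⟩
      obtain ⟨j, hj⟩ := PGroup.exists_card_eq_pow ((c.pGroup.to_subgroup H).to_subgroup (frattini H))
      have hj0 : 3 ≤ Nat.card (frattini H) := by
        rw [hj] at h2 ⊢
        refine Nat.le_self_pow ?_ 3
        rintro rfl
        exact h2 (pow_zero 3)
      nlinarith [h1, hj0]
    · have : H = ⊤ := eq_top_of_card_eq H (by rw [hk', c.card])
      exact twoGen_of_cent c.card (this ▸ mem_top x) c.cent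

end Ctx

end Cfsg.Agent.Pearl
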